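import Groth.Agent.SGA3x.K5.Clopen

/-!
# The centralizer of a subgroup of multiplicative type is open and closed in the normalizer

No hypothesis is made on the group `G`: we only need that the centralizer and the normalizer are representable.
-/

set_option autoImplicit false
universe u
open CategoryTheory MonoidalCategory CartesianMonoidalCategory MonObj GrpObj AlgebraicGeometry Limits

namespace Groth.Agent.SGA3x.K5.CentNorm

open Groth.Agent.Sga3B

variable {S : Scheme.{u}} {G H : Over S} [GrpObj G] [GrpObj H]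

/-- **Families of points normalizing a subgroup of multiplicative type centralize it over an open and closed
subscheme of the parameter space.** -/
theorem exists_clopen_centralize (i : H ⟶ G) [IsMonHom i] [Mono i] (hH : SGA3x.IsMultTypeFT H) {X : Over S}
    (x : X ⟶ G) (hx : ∀ (T : Over S) (t : T ⟶ X) (h : T ⟶ H), ∃ h' : T ⟶ H,
      (t ≫ x) * (h ≫ i) * (t ≫ x)⁻¹ = h' ≫ i) :
    ∃ U : X.left.Opens, IsClosed (U : Set X.left) ∧ ∀ (T : Over S) (t : T ⟶ X),
      (∀ (T' : Over S) (b : T' ⟶ T) (h : T' ⟶ H), (b ≫ t ≫ x) * (h ≫ i) = (h ≫ i) * (b ≫ t ≫ x)) ↔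
      Set.range t.left ⊆ (U : Set X.left) := by
  obtain ⟨c, hc⟩ := hx (H ⊗ X) (snd _ _) (fst _ _)
  have hc' : ∀ {T : Over S} (h : T ⟶ H) (t : T ⟶ X),
      (lift h t ≫ c) ≫ i = (t ≫ x) * (h ≫ i) * (t ≫ x)⁻¹ := by
    intro T h t
    rw [Category.assoc, ← hc, MonObj.comp_mul, MonObj.comp_mul, GrpObj.comp_inv, ← Category.assoc,
      ← Category.assoc, lift_snd, lift_fst]
  have h1 : AutFam.IsHomFamily H H c := by
    intro T h₁ h₂ t
    rw [← cancel_mono i, MonObj.mul_comp, hc', hc', hc', MonObj.mul_comp]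
    group
  have h2 : AutFam.IsHomFamily H H (fst H X) := by
    intro T h₁ h₂ t
    simp
  obtain ⟨U, hU, hU'⟩ := Clopen.exists_clopen_fam hH hH h1 h2
  refine ⟨U, hU, fun T t => ?_⟩
  rw [← hU' T t]
  refine forall_congr' fun T' => forall_congr' fun b => forall_congr' fun h => ?_
  rw [← cancel_mono i, hc', lift_fst, Category.assoc, mul_inv_eq_iff_eq_mul]

/-- **The centralizer of a subgroup of multiplicative type is open and closed in its normalizer.** -/
theorem exists_openImmersion {Z N : Over S} [GrpObj Z] [GrpObj N] (hH : SGA3x.IsMultTypeFT H) (i : H ⟶ G)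
    [IsMonHom i] [Mono i] (j : Z ⟶ G) (k : N ⟶ G) (hj : Red.IsCentralizerOf i j) (hk : Red.IsNormalizerOf i k) :
    ∃ f : Z ⟶ N, f ≫ k = j ∧ IsOpenImmersion f.left ∧ IsClosedImmersion f.left := by
  obtain ⟨-, hjm, hj⟩ := hj
  obtain ⟨-, hkm, hk⟩ := hk
  obtain ⟨U, hU, hU'⟩ := exists_clopen_centralize i hH k fun T t h =>
    (((hk T (t ≫ k)).mp ⟨t, rfl⟩ T (𝟙 T) h).1).imp fun h' hh => by simpa using hh
  obtain ⟨f, hf⟩ := (hk Z j).mpr fun T z h => by
    have h1 := (hj Z j).mp ⟨𝟙 Z, Category.id_comp j⟩ T z h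
    exact ⟨⟨h, by rw [h1]; group⟩, ⟨h, by rw [_root_.mul_assoc, ← h1]; group⟩⟩
  have hfm : Mono f := by
    have : Mono (f ≫ k) := by rw [hf]; exact hjm
    exact mono_of_mono f k
  -- the open and closed subscheme
  let Z' : Over S := Over.mk (U.ι ≫ N.hom)
  let m : Z' ⟶ N := Over.homMk U.ι rfl
  have hm : Mono m := by
    have : Mono m.left := inferInstanceAs (Mono U.ι)
    exact Over.mono_of_mono_left m
  obtain ⟨z, hz⟩ := (hj Z' (m ≫ k)).mpr ((hU' Z' m).mpr (by
    change Set.range U.ι ⊆ _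
    rw [Scheme.Opens.range_ι]))
  have hz' : z ≫ f = m := by rw [← cancel_mono k, Category.assoc, hf, hz]
  have h1 : Set.range f.left ⊆ (U : Set N.left) := (hU' Z f).mp (by
    rw [hf]
    exact (hj Z j).mp ⟨𝟙 Z, Category.id_comp j⟩)
  let f' : Z ⟶ Z' := Over.homMk (IsOpenImmersion.lift U.ι f.left (by rwa [Scheme.Opens.range_ι])) (by
    change _ ≫ U.ι ≫ N.hom = _
    rw [← Category.assoc, IsOpenImmersion.lift_fac, Over.w])
  have hf' : f' ≫ m = f := by
    ext1
    exact IsOpenImmersion.lift_fac _ _ _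
  have hiso : IsIso f' := ⟨z, by rw [← cancel_mono f, Category.assoc, hz', hf', Category.id_comp],
    by rw [← cancel_mono m, Category.assoc, hf', hz', Category.id_comp]⟩
  have h2 : IsIso f'.left := inferInstanceAs (IsIso ((Over.forget S).map f'))
  have h3 : f.left = f'.left ≫ U.ι := congrArg (fun q => Over.Hom.left q) hf'.symm
  have h4 : IsClosedImmersion U.ι :=
    IsClosedImmersion.of_isPreimmersion U.ι (by rw [Scheme.Opens.range_ι]; exact hU)
  refine ⟨f, hf, ?_, ?_⟩
  · rw [h3]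
    infer_instance
  · rw [h3]
    infer_instance

end Groth.Agent.SGA3x.K5.CentNorm
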