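import Groth.Agent.S0585
import Groth.Agent.PerfB.FFFamily
import Groth.Agent.Sga3.H829.MultConv
import Groth.Agent.Sga3.H817.WeilProj
import Groth.Agent.Sga3B.CentSmooth

/-!
# Groups of multiplicative type have locally projective coordinate rings

* `exists_affine_family`: over an affine open `V` of the base, a group of multiplicative type and of finite type
  is split by a finite family of flat morphisms `Spec (C i) ⟶ S` with union of images `V`;
* `locProj_of_isMultTypeFT`: `WeilProj.LocProj H.hom`.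
-/

set_option autoImplicit false
universe u
open CategoryTheory MonoidalCategory CartesianMonoidalCategory MonObj GrpObj AlgebraicGeometry Limits
open scoped TensorProduct

namespace Groth.Agent.SGA3x.K5.MTProj

open Groth.Agent.Sga3B Groth.Agent.Books.AffBridge Groth.Agent.Sga3.H817.WeilProj

variable {S : Scheme.{u}}

section algebra

/-- A module over a finite product of rings is projective if its components are. -/
theorem projective_of_pi {κ : Type u} [Finite κ] (S : κ → Type u) [∀ i, CommRing (S i)] (P : Type u)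
    [AddCommGroup P] [Module (∀ i, S i) P]
    (h : ∀ i, letI : Algebra (∀ i, S i) (S i) := (Pi.evalRingHom S i).toAlgebra
      Module.Projective (S i) (S i ⊗[∀ i, S i] P)) : Module.Projective (∀ i, S i) P := by
  classical
  have := Fintype.ofFinite κ
  let _ : ∀ i, Algebra (∀ i, S i) (S i) := fun i => (Pi.evalRingHom S i).toAlgebra
  have hp : ∀ i, Module.Projective (S i) (S i ⊗[∀ i, S i] P) := h
  refine Module.Projective.of_lifting_property'' fun f hf => ?_
  let T := ∀ i, S i
  let M := P →₀ T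
  have hsec : ∀ i, ∃ σ : (S i ⊗[T] P) →ₗ[S i] (S i ⊗[T] M), (f.baseChange (S i)).comp σ = LinearMap.id := by
    intro i
    have hs : Function.Surjective (f.baseChange (S i)) := by
      rw [LinearMap.baseChange_eq_ltensor]
      exact LinearMap.lTensor_surjective _ hf
    exact Module.projective_lifting_property _ _ hs
  choose σ hσ using hsec
  -- the maps back
  let ρ : ∀ (i : κ) (N : Type u) [AddCommGroup N] [Module T N], (S i ⊗[T] N) →ₗ[T] N := fun i N _ _ =>
    TensorProduct.lift
      ({ toFun := fun s =>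
          { toFun := fun n => (Pi.single i s : T) • n
            map_add' := fun _ _ => smul_add _ _ _
            map_smul' := fun t n => by
              rw [smul_smul, smul_smul, mul_comm]; rfl }
         map_add' := fun s s' => by
          ext n
          simp [Pi.single_add, add_smul]
         map_smul' := fun t s => by
          ext n
          have h1 : t • s = t i * s := rfl
          have h2 : (Pi.single i (t i * s) : T) = t * Pi.single i s := by
            ext j
            change (Pi.single i (t i * s) : T) j = t j * (Pi.single i s : T) j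
            by_cases hj : j = i
            · subst hj
              rw [Pi.single_eq_same, Pi.single_eq_same]
            · rw [Pi.single_eq_of_ne hj, Pi.single_eq_of_ne hj, mul_zero]
          simp only [LinearMap.coe_mk, AddHom.coe_mk, RingHom.id_apply, LinearMap.smul_apply, h1, h2, mul_smul] } )
  have hρ : ∀ (i : κ) (N N' : Type u) [AddCommGroup N] [Module T N] [AddCommGroup N'] [Module T N']
      (g : N →ₗ[T] N') (x : S i ⊗[T] N), g (ρ i N x) = ρ i N' (g.baseChange (S i) x) := by
    intro i N N' _ _ _ _ g x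
    induction x with
    | zero => simp
    | tmul s n => simp [ρ]
    | add x y hx hy => simp only [map_add, hx, hy]
  let s : P →ₗ[T] M := ∑ i, (ρ i M).comp (((σ i).restrictScalars T).comp (TensorProduct.mk T (S i) P 1))
  refine ⟨s, ?_⟩
  ext p
  simp only [s, LinearMap.comp_apply, LinearMap.sum_apply, map_sum, LinearMap.restrictScalars_apply,
    TensorProduct.mk_apply, LinearMap.id_apply]
  have h3 : ∀ i, f (ρ i M (σ i (1 ⊗ₜ[T] p))) = (Pi.single i 1 : T) • p := by
    intro i
    rw [hρ]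
    have := LinearMap.congr_fun (hσ i) (1 ⊗ₜ[T] p)
    rw [LinearMap.comp_apply, LinearMap.id_apply] at this
    rw [this]
    simp [ρ]
  simp only [h3]
  rw [← Finset.sum_smul]
  have h4 : (∑ i, (Pi.single i 1 : T)) = 1 := by
    ext j
    simp [Finset.sum_apply]
  rw [h4, one_smul]

end algebra

/-- Sections over a scheme isomorphic to the spectrum of a projective algebra. -/
lemma projective_of_iso {C D : Type u} [CommRing C] [CommRing D] [Algebra C D] [Module.Projective C D]
    {X' : Scheme.{u}} (f' : X' ⟶ Spec (CommRingCat.of C)) (e : X' ≅ Spec (CommRingCat.of D))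
    (he : e.hom ≫ Spec.map (CommRingCat.ofHom (algebraMap C D)) = f') (U : X'.Opens) (hU : U = ⊤)
    (le : U ≤ f' ⁻¹ᵁ ⊤) :
    letI := (f'.appLE ⊤ U le).hom.toAlgebra
    Module.Projective Γ(Spec (CommRingCat.of C), ⊤) Γ(X', U) := by
  subst hU
  let σ : C ≃+* Γ(Spec (CommRingCat.of C), ⊤) := (Scheme.ΓSpecIso (CommRingCat.of C)).commRingCatIsoToRingEquiv.symm
  let τ : D ≃+* Γ(X', ⊤) := ((Scheme.ΓSpecIso (CommRingCat.of D)).symm ≪≫
    (Scheme.Γ.mapIso e.op)).commRingCatIsoToRingEquiv
  have hτ : ∀ c : C, τ (algebraMap C D c) = (f'.appLE ⊤ ⊤ le).hom (σ c) := by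
    intro c
    have h1 : CommRingCat.ofHom (algebraMap C D) ≫ (Scheme.ΓSpecIso (CommRingCat.of D)).inv ≫ e.hom.appTop =
        (Scheme.ΓSpecIso (CommRingCat.of C)).inv ≫ f'.appTop := by
      rw [← he, Scheme.Hom.comp_appTop, ← Category.assoc, ← Category.assoc]
      congr 1
      exact Scheme.ΓSpecIso_inv_naturality (CommRingCat.ofHom (algebraMap C D))
    have h2 : f'.appLE ⊤ ⊤ le = f'.appTop := f'.app_eq_appLE.symm
    rw [h2]
    exact congr($h1 c)
  let _ := (f'.appLE ⊤ ⊤ le).hom.toAlgebra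
  let _ : RingHomInvPair (σ : C →+* Γ(Spec (CommRingCat.of C), ⊤)) (σ.symm : _ →+* C) := RingHomInvPair.of_ringEquiv σ
  let _ : RingHomInvPair (σ.symm : _ →+* C) (σ : C →+* Γ(Spec (CommRingCat.of C), ⊤)) := RingHomInvPair.symm _ _
  let e₂ : D ≃ₛₗ[(σ : C →+* Γ(Spec (CommRingCat.of C), ⊤))] Γ(X', ⊤) :=
    { τ.toAddEquiv with
      map_smul' := fun c d => by
        change τ (c • d) = (f'.appLE ⊤ ⊤ le).hom (σ c) * τ d
        rw [Algebra.smul_def, map_mul, hτ] }
  exact Module.Projective.of_equiv e₂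

/-- An affine open immersion through a given point with image in a given open. -/
lemma exists_affine (S : Scheme.{u}) (V : S.Opens) (s₀ : S) (h : s₀ ∈ V) :
    ∃ (A : Type u) (_ : CommRing A) (j : Spec (CommRingCat.of A) ⟶ S), IsOpenImmersion j ∧
      Set.range j ⊆ (V : Set S) ∧ s₀ ∈ Set.range j := by
  obtain ⟨_, ⟨W, hW, rfl⟩, hs₀W, hWV⟩ :=
    S.isBasis_affineOpens.exists_subset_of_mem_open (a := s₀) (u := (V : Set S)) h V.2
  have hjr : Set.range hW.fromSpec = (W : Set S) := hW.range_fromSpec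
  exact ⟨Γ(S, W), inferInstance, hW.fromSpec, IsAffineOpen.isOpenImmersion_fromSpec hW, hjr.le.trans hWV, hjr.ge hs₀W⟩

/-- A finite affine family splitting a group of multiplicative type over an affine open of the base. -/
theorem exists_affine_family {H : Over S} [GrpObj H] (hH : SGA3x.IsMultTypeFT H) (V : S.Opens)
    (hV : IsAffineOpen V) :
    ∃ (κ : Type u) (_ : Finite κ) (C : κ → Type u) (_ : ∀ i, CommRing (C i))
      (c : ∀ i, Spec (CommRingCat.of (C i)) ⟶ S),
      (∀ i, Flat (c i)) ∧ (⋃ i, Set.range (c i)) = (V : Set S) ∧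
      ∀ i, ∃ (M : Type) (_ : AddCommGroup M), AddGroup.FG M ∧
        Nonempty (Grp.mk (Red.bc (c i) H) ≅ Grp.mk (Red.DS (Spec (CommRingCat.of (C i))) M)) := by
  obtain ⟨S', f, hf, -, hc, h⟩ := hH
  obtain ⟨W, hW, hWV⟩ := hc V hV
  choose U hU M iM hM hsp using h
  have h1 : ∀ w : S', w ∈ W → ∃ (A : Type u) (_ : CommRing A) (j : Spec (CommRingCat.of A) ⟶ S'),
      IsOpenImmersion j ∧ Set.range j ⊆ ((W ⊓ U w : S'.Opens) : Set S') ∧ w ∈ Set.range j :=
    fun w hw => exists_affine S' (W ⊓ U w) w ⟨hw, hU w⟩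
  choose A iA j hj hjr hjw using h1
  obtain ⟨t, ht⟩ := hW.elim_finite_subcover (fun w : (W : Set S') => Set.range (j w.1 w.2))
    (fun w => by
      have := hj w.1 w.2
      exact (j w.1 w.2).isOpenEmbedding.isOpen_range)
    (fun w hw => Set.mem_iUnion.2 ⟨⟨w, hw⟩, hjw w hw⟩)
  refine ⟨t, inferInstance, fun i => A i.1.1 i.1.2, fun i => iA i.1.1 i.1.2, fun i => j i.1.1 i.1.2 ≫ f, ?_, ?_, ?_⟩
  · intro i
    have := hj i.1.1 i.1.2
    infer_instance
  · rw [← hWV]
    apply Set.Subset.antisymm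
    · intro x hx
      obtain ⟨i, y, hy⟩ := Set.mem_iUnion.1 hx
      refine ⟨j i.1.1 i.1.2 y, (hjr i.1.1 i.1.2 ⟨y, rfl⟩).1, ?_⟩
      rw [← hy]; rfl
    · rintro _ ⟨w, hw, rfl⟩
      have h2 := ht hw
      simp only [Set.mem_iUnion] at h2
      obtain ⟨i, hi, y, hy⟩ := h2
      refine Set.mem_iUnion.2 ⟨⟨i, hi⟩, y, ?_⟩
      rw [← hy]; rfl
  · intro i
    have := hj i.1.1 i.1.2
    let k : Spec (CommRingCat.of (A i.1.1 i.1.2)) ⟶ (U i.1.1 : Scheme.{u}) :=
      IsOpenImmersion.lift (U i.1.1).ι (j i.1.1 i.1.2) (by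
        rw [Scheme.Opens.range_ι]
        exact fun x hx => (hjr i.1.1 i.1.2 hx).2)
    have hk : k ≫ (U i.1.1).ι ≫ f = j i.1.1 i.1.2 ≫ f := by
      rw [← Category.assoc, IsOpenImmersion.lift_fac]
    refine ⟨M i.1.1, iM i.1.1, hM i.1.1, ?_⟩
    obtain ⟨e⟩ := TorusAlgClosed.isSplitTorusWith_bc k (hsp i.1.1)
    exact ⟨BcIso.bcCongrIso hk.symm H ≪≫ BcIso.bcCompIso k ((U i.1.1).ι ≫ f) H ≪≫ e⟩

/-- The structure morphism of a group isomorphic to `D(M)` over an affine base, as a scheme. -/
lemma exists_iso_spec {C : Type u} [CommRing C] {M : Type} [AddCommGroup M]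
    {X : Over (Spec (CommRingCat.of C))} [GrpObj X]
    (h : Nonempty (Grp.mk X ≅ Grp.mk (Red.DS (Spec (CommRingCat.of C)) M))) :
    ∃ e : X.left ≅ Spec (CommRingCat.of (MonoidAlgebra C (Multiplicative M))),
      e.hom ≫ Spec.map (CommRingCat.ofHom (algebraMap C (MonoidAlgebra C (Multiplicative M)))) = X.hom := by
  obtain ⟨e⟩ := h
  let e₂ : Red.DS (Spec (CommRingCat.of C)) M ≅ SpecOver C (MonoidAlgebra C (Multiplicative M)) :=
    ⟨DSAff.dsTo C M, DSAff.dsFrom C M, DSAff.dsTo_dsFrom, DSAff.dsFrom_dsTo⟩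
  let e' : X ≅ Red.DS (Spec (CommRingCat.of C)) M := (Grp.forget _).mapIso e
  exact ⟨(Over.forget _).mapIso (e' ≪≫ e₂), Over.w (e' ≪≫ e₂).hom⟩

/-- **A group of multiplicative type and of finite type has locally projective coordinate rings.** -/
theorem locProj_of_isMultTypeFT {H : Over S} [GrpObj H] (hH : SGA3x.IsMultTypeFT H) : LocProj H.hom := by
  have haff := Groth.Agent.Sga3.H829.MultConv.isAffineHom_of_isMultTypeFT hH
  intro s
  obtain ⟨V, hV, hsV, -⟩ := exists_isAffineOpen_mem_and_subset (x := s) (U := ⊤) trivial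
  have hU : IsAffineOpen (H.hom ⁻¹ᵁ V) := hV.preimage H.hom
  refine ⟨V, hV, hsV, fun x hx => ⟨H.hom ⁻¹ᵁ V, hU, le_rfl, hx, ?_⟩⟩
  obtain ⟨κ, _, C, _, c, hc, hcV, hsp⟩ := exists_affine_family hH V hV
  have hr : ∀ i, (⊤ : (Spec (CommRingCat.of (C i))).Opens) ≤ c i ⁻¹ᵁ V := by
    intro i y _
    change c i y ∈ (V : Set S)
    rw [← hcV]
    exact Set.mem_iUnion.2 ⟨i, y, rfl⟩
  let R := Γ(S, V)
  let A := Γ(H.left, H.hom ⁻¹ᵁ V)
  let _ : Algebra R A := (H.hom.appLE V (H.hom ⁻¹ᵁ V) le_rfl).hom.toAlgebra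
  let T : κ → Type u := fun i => Γ(Spec (CommRingCat.of (C i)), ⊤)
  let _ : ∀ i, CommRing (T i) := fun i => inferInstanceAs (CommRing Γ(Spec (CommRingCat.of (C i)), ⊤))
  let _ : ∀ i, Algebra R (T i) := fun i => ((c i).appLE V ⊤ (hr i)).hom.toAlgebra
  have key : ∀ i, Module.Projective (T i) (T i ⊗[R] A) := by
    intro i
    obtain ⟨M, _, hM, h⟩ := hsp i
    obtain ⟨e, he⟩ := exists_iso_spec h
    have H1 : IsPullback (pullback.fst H.hom (c i)) (pullback.snd H.hom (c i)) H.hom (c i) :=
      IsPullback.of_hasPullback _ _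
    have hpo := (isIso_pushoutSection_iff H1 (hr i) (le_refl (H.hom ⁻¹ᵁ V)) rfl).1
      (isIso_pushoutSection_of_isAffineOpen H1 (hr i) (le_refl (H.hom ⁻¹ᵁ V)) rfl hV (isAffineOpen_top _) hU)
    let W : (pullback H.hom (c i)).Opens :=
      pullback.fst H.hom (c i) ⁻¹ᵁ (H.hom ⁻¹ᵁ V) ⊓ pullback.snd H.hom (c i) ⁻¹ᵁ ⊤
    have hW : W = ⊤ := by
      apply top_le_iff.mp
      intro y _
      refine ⟨?_, trivial⟩
      change H.hom (pullback.fst H.hom (c i) y) ∈ V
      rw [← Scheme.Hom.comp_apply, pullback.condition, Scheme.Hom.comp_apply]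
      exact hr i trivial
    let i3 : Algebra (T i) Γ(pullback H.hom (c i), W) :=
      ((pullback.snd H.hom (c i)).appLE ⊤ W inf_le_right).hom.toAlgebra
    have hproj : Module.Projective (T i) Γ(pullback H.hom (c i), W) :=
      projective_of_iso (pullback.snd H.hom (c i)) e he W hW inf_le_right
    let i4 : Algebra A Γ(pullback H.hom (c i), W) :=
      ((pullback.fst H.hom (c i)).appLE (H.hom ⁻¹ᵁ V) W inf_le_left).hom.toAlgebra
    let i5 : Algebra R Γ(pullback H.hom (c i), W) :=
      (((pullback.fst H.hom (c i)).appLE (H.hom ⁻¹ᵁ V) W inf_le_left).hom.comp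
        (H.hom.appLE V (H.hom ⁻¹ᵁ V) le_rfl).hom).toAlgebra
    have i6 : IsScalarTower R A Γ(pullback H.hom (c i), W) :=
      IsScalarTower.of_algebraMap_eq (fun _ => rfl)
    have i7 : IsScalarTower R (T i) Γ(pullback H.hom (c i), W) :=
      IsScalarTower.of_algebraMap_eq (fun a => congr($(hpo.w) a))
    have hpo2 : Algebra.IsPushout R (T i) A Γ(pullback H.hom (c i), W) :=
      ((CommRingCat.isPushout_iff_isPushout (R := R) (S := T i) (R' := A)
        (S' := Γ(pullback H.hom (c i), W))).1 hpo).symm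
    exact Module.Projective.of_equiv hpo2.out.equiv.symm
  have hflat : ∀ i, Module.Flat R (T i) := by
    intro i
    have h1 : ((c i).appLE V ⊤ (hr i)).hom.Flat := by
      have := hc i
      exact Flat.flat_appLE (c i) hV (isAffineOpen_top _) (hr i)
    exact h1
  have hsurj : ∀ p : PrimeSpectrum R, ∃ i, ∃ q : PrimeSpectrum (T i),
      PrimeSpectrum.comap (algebraMap R (T i)) q = p := by
    intro p
    have h1 : hV.fromSpec p ∈ (V : Set S) := by
      rw [← hV.range_fromSpec]
      exact ⟨p, rfl⟩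
    rw [← hcV] at h1
    obtain ⟨i, y, hy⟩ := Set.mem_iUnion.1 h1
    let y' : Spec Γ(Spec (CommRingCat.of (C i)), ⊤) := (Spec (CommRingCat.of (C i))).isoSpec.hom y
    refine ⟨i, y', ?_⟩
    apply hV.fromSpec.isOpenEmbedding.injective
    rw [← hy]
    have h2 : (isAffineOpen_top (Spec (CommRingCat.of (C i)))).fromSpec ≫ c i =
        Spec.map ((c i).appLE V ⊤ (hr i)) ≫ hV.fromSpec :=
      (IsAffineOpen.SpecMap_appLE_fromSpec (c i) hV (isAffineOpen_top _) (hr i)).symm
    have h3 : (isAffineOpen_top (Spec (CommRingCat.of (C i)))).fromSpec y' = y := by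
      rw [IsAffineOpen.fromSpec_top]
      change ((Spec (CommRingCat.of (C i))).isoSpec.hom ≫ (Spec (CommRingCat.of (C i))).isoSpec.inv) y = y
      rw [Iso.hom_inv_id]
      rfl
    have h4 := congr($h2 y')
    rw [Scheme.Hom.comp_apply, h3] at h4
    exact h4.symm
  have hff : Module.FaithfullyFlat R (∀ i, T i) :=
    Groth.Agent.PerfB.FFFamily.faithfullyFlat_pi (A := R) (B := T) (fun q => by
      obtain ⟨i, q', h⟩ := hsurj q
      exact ⟨i, q', h⟩)
  have hproj : Module.Projective (∀ i, T i) ((∀ i, T i) ⊗[R] A) := by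
    refine projective_of_pi T _ fun i => ?_
    let _ : Algebra (∀ i, T i) (T i) := (Pi.evalRingHom T i).toAlgebra
    have : IsScalarTower R (∀ i, T i) (T i) := IsScalarTower.of_algebraMap_eq (fun _ => rfl)
    exact Module.Projective.of_equiv (TensorProduct.AlgebraTensorModule.cancelBaseChange R (∀ i, T i) (T i) (T i) A).symm
  exact S0585.result R (∀ i, T i) A

end Groth.Agent.SGA3x.K5.MTProj
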