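import Groth.Agent.SGA3x.K5.MTProj
import Groth.Agent.Sga3.H817.CentRepProj
import Groth.Agent.Sga3B.TorTransp

/-!
# Transporters and centralizers of homomorphisms from groups of multiplicative type

`H` of multiplicative type and of finite type, `G` smooth and separated over `S`, `u₁ u₂ : H ⟶ G` homomorphisms.

* `transp_lift`: infinitesimal lifting for the transporter of `u₁` into `u₂`, over local rings over which `H` is split;
* `exists_transporter`: the transporter is represented by a closed subscheme of `G`, smooth over `S`;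
* `exists_centralizer`: the centralizer of a homomorphism is a closed subgroup, smooth over `S`.
-/

set_option autoImplicit false
universe u
open CategoryTheory MonoidalCategory CartesianMonoidalCategory MonObj GrpObj AlgebraicGeometry Limits

namespace Groth.Agent.SGA3x.K5.MTTransp

open Groth.Agent.Sga3B Groth.Agent.Sga3B.InfConj Groth.Agent.Sga3B.InfConjFam Groth.Agent.Sga3B.DSPts
open Groth.Agent.Sga3B.DSRigid Groth.Agent.Sga3B.CentRep Groth.Agent.Sga3B.CentLift
open Groth.Agent.Sga3B.CentSmooth Groth.Agent.Sga3B.TorTransp Groth.Agent.Sga3.H817.WeilProj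

variable {S : Scheme.{u}}

section

variable {G Q : Over S} [GrpObj G] [GrpObj Q] (u₁ u₂ : Q ⟶ G) [IsMonHom u₁] [IsMonHom u₂]
  {B : Type u} [CommRing B] [IsLocalRing B] (I : Ideal B) (hI : I * I = ⊥)
  (x : Spec (CommRingCat.of B) ⟶ S) {M : Type} [AddCommGroup M]
  (hQ : Red.IsSplitTorusWith M (Red.bc x Q)) [IsSeparated G.hom]

include hI hQ

/-- A point conjugating `u₁` into `u₂` modulo `I` can be corrected to a point conjugating `u₁` into `u₂`. -/
theorem transp_lift (g₁ : Over.mk x ⟶ G) (h₁ : Transp u₁ u₂ (redMap x I ≫ g₁)) :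
    ∃ w : Over.mk x ⟶ G, redMap x I ≫ w = 1 ∧ Transp u₁ u₂ (w⁻¹ * g₁) := by
  obtain ⟨e, he, ψ, hψ1, hψ2⟩ := exists_isIsoFamily x hQ
  let a : Red.DS S M ⊗ Over.mk x ⟶ G := (snd _ _ ≫ g₁) * (e ≫ u₁) * (snd _ _ ≫ g₁)⁻¹
  let b : Red.DS S M ⊗ Over.mk x ⟶ G := e ≫ u₂
  have ha' : ∀ (T : Over S) (d : T ⟶ Red.DS S M) (t : T ⟶ Over.mk x),
      lift d t ≫ a = (t ≫ g₁) * (lift d t ≫ e ≫ u₁) * (t ≫ g₁)⁻¹ := by
    intro T d t
    simp only [a, MonObj.comp_mul, GrpObj.comp_inv, lift_snd_assoc]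
  have hb' : ∀ (T : Over S) (d : T ⟶ Red.DS S M) (t : T ⟶ Over.mk x),
      lift d t ≫ b = lift d t ≫ e ≫ u₂ := fun _ _ _ => rfl
  have hb0 : ∀ (v : Q ⟶ G) [IsMonHom v] (T : Over S) (d₁ d₂ : T ⟶ Red.DS S M) (t : T ⟶ Over.mk x),
      lift (d₁ * d₂) t ≫ e ≫ v = (lift d₁ t ≫ e ≫ v) * (lift d₂ t ≫ e ≫ v) := by
    intro v _ T d₁ d₂ t
    rw [← Category.assoc, he, MonObj.mul_comp, Category.assoc, Category.assoc]
  have hb : AutFam.IsHomFamily (Red.DS S M) G b := by
    intro T d₁ d₂ t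
    rw [hb', hb', hb', hb0]
  have ha : AutFam.IsHomFamily (Red.DS S M) G a := by
    intro T d₁ d₂ t
    rw [ha', ha', ha', hb0]
    group
  obtain ⟨w, hw1, hw2⟩ := infConj_family x G I hI (LocalLift.hasAffineUnitNhd_of_isLocalRing _) a b ha hb (by
    have h2 := h₁ (Red.DS S M ⊗ _) (snd _ _) ((Red.DS S M ◁ redMap x I) ≫ e)
    have h3 : (Red.DS S M ◁ redMap x I) ≫ a = (snd _ _ ≫ redMap x I ≫ g₁) *
        (((Red.DS S M ◁ redMap x I) ≫ e) ≫ u₁) * (snd _ _ ≫ redMap x I ≫ g₁)⁻¹ := by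
      simp only [a, MonObj.comp_mul, GrpObj.comp_inv, whiskerLeft_snd_assoc, Category.assoc]
    rw [h3, h2, Category.assoc])
  refine ⟨w, hw1, ?_⟩
  intro T t h
  have h4 := hw2 T (lift h t ≫ ψ) t
  rw [ha', hb', ← Category.assoc, hψ2, ← Category.assoc, hψ2] at h4
  rw [MonObj.comp_mul, GrpObj.comp_inv]
  have h5 : (t ≫ w)⁻¹ * (t ≫ g₁) * (h ≫ u₁) * ((t ≫ w)⁻¹ * (t ≫ g₁))⁻¹ =
      (t ≫ w)⁻¹ * ((t ≫ g₁) * (h ≫ u₁) * (t ≫ g₁)⁻¹) * (t ≫ w) := by group
  rw [h5, h4]
  group

end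

section

variable {G Q : Over S} [GrpObj G] [GrpObj Q] (u₁ u₂ : Q ⟶ G) [IsMonHom u₁] [IsMonHom u₂]
  (hQ : SGA3x.IsMultTypeFT Q)

include hQ in
/-- A closed subscheme representing the transporter of two homomorphisms is smooth. -/
theorem smooth_transporter [Smooth G.hom] [IsSeparated G.hom] {Z : Over S} (z : Z ⟶ G) [Mono z]
    [LocallyOfFinitePresentation z.left]
    (hz : ∀ (T : Over S) (g : T ⟶ G), (∃ a : T ⟶ Z, a ≫ z = g) ↔ Transp u₁ u₂ g) : Smooth Z.hom := by
  obtain ⟨S', f, hf, hs, hc, h⟩ := hQ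
  refine smooth_of_lift z (fun T => {g | Transp u₁ u₂ g}) hz f hc fun s' => ?_
  obtain ⟨U, hU, M, _, hM, hr⟩ := h s'
  refine ⟨U, hU, fun B _ _ I hI x β hx g₁ hg₁ => ?_⟩
  subst hx
  exact transp_lift u₁ u₂ I hI _ (isSplit_bc _ β hr) g₁ hg₁

omit [GrpObj Q] [IsMonHom u₁] [IsMonHom u₂] in
/-- The transporter of two morphisms, for `Q` with locally projective coordinate rings and `G` with closed unit
section. -/
theorem exists_closed_transporter (hQ : LocProj Q.hom) [IsClosedImmersion η[G].left] :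
    ∃ (Z : Over S) (z : Z ⟶ G), IsClosedImmersion z.left ∧
      (∀ (T : Over S) (g : T ⟶ G), (∃ a : T ⟶ Z, a ≫ z = g) ↔ Transp u₁ u₂ g) ∧
      (QuasiCompact Q.hom → LocallyOfFiniteType G.hom → LocallyOfFinitePresentation z.left) := by
  obtain ⟨Z, z, hz, huniv, hfp⟩ := Sga3.H817.CentRepProj.exists_closed_map (X := G) (Q := Q) hQ
    (fst G Q * (snd G Q ≫ u₁) * (fst G Q)⁻¹ * (snd G Q ≫ u₂)⁻¹) η[G]
  refine ⟨Z, z, hz, fun T g => ?_, fun hq h => hfp hq locallyOfFinitePresentation_one⟩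
  rw [huniv]
  refine forall_congr' fun T' => forall_congr' fun x => forall_congr' fun h => ?_
  have e : lift (x ≫ g) h ≫ (fst G Q * (snd G Q ≫ u₁) * (fst G Q)⁻¹ * (snd G Q ≫ u₂)⁻¹) =
      (x ≫ g) * (h ≫ u₁) * (x ≫ g)⁻¹ * (h ≫ u₂)⁻¹ := by
    simp only [MonObj.comp_mul, GrpObj.comp_inv, lift_fst, lift_snd_assoc]
  rw [e]
  constructor
  · rintro ⟨b, hb⟩
    have e2 : b ≫ η[G] = 1 := by rw [one_eq_one, MonObj.comp_one]
    rw [e2, eq_comm, mul_inv_eq_one] at hb
    exact hb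
  · intro h
    refine ⟨toUnit _, ?_⟩
    have e2 : toUnit T' ≫ η[G] = 1 := by rw [one_eq_one, MonObj.comp_one]
    rw [e2, eq_comm, mul_inv_eq_one]
    exact h

include hQ in
/-- **The transporter of two homomorphisms from a group of multiplicative type** to a smooth separated group is
represented by a closed subscheme of finite presentation, smooth over the base. -/
theorem exists_transporter [Smooth G.hom] [IsSeparated G.hom] :
    ∃ (Z : Over S) (z : Z ⟶ G), IsClosedImmersion z.left ∧ Smooth Z.hom ∧ LocallyOfFinitePresentation z.left ∧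
      ∀ (T : Over S) (g : T ⟶ G), (∃ a : T ⟶ Z, a ≫ z = g) ↔ Transp u₁ u₂ g := by
  have haff := Sga3.H829.MultConv.isAffineHom_of_isMultTypeFT hQ
  have h1 : IsClosedImmersion η[G].left := (S0346.result S G).1.mp inferInstance
  obtain ⟨Z, z, hz, huniv, hfp⟩ := exists_closed_transporter u₁ u₂ (MTProj.locProj_of_isMultTypeFT hQ)
  have hmono : Mono z := Over.mono_of_mono_left z
  have := hfp inferInstance inferInstance
  exact ⟨Z, z, hz, smooth_transporter u₁ u₂ hQ z huniv, this, huniv⟩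

include hQ in
/-- **The centralizer of a homomorphism from a group of multiplicative type** to a smooth separated group is a
closed subgroup of finite presentation, smooth over the base. -/
theorem exists_centralizer [Smooth G.hom] [IsSeparated G.hom] :
    ∃ (Z : Over S) (_ : GrpObj Z) (z : Z ⟶ G), Red.IsCentralizerOf u₁ z ∧ IsClosedImmersion z.left ∧
      Smooth Z.hom ∧ LocallyOfFinitePresentation z.left := by
  have haff := Sga3.H829.MultConv.isAffineHom_of_isMultTypeFT hQ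
  have h1 : IsClosedImmersion η[G].left := (S0346.result S G).1.mp inferInstance
  obtain ⟨Z, i1, z, hz, hzc, hfp⟩ :=
    Sga3.H817.CentRepProj.exists_centralizer u₁ (MTProj.locProj_of_isMultTypeFT hQ)
  have hmono : Mono z := Over.mono_of_mono_left z
  have := hfp inferInstance inferInstance
  refine ⟨Z, i1, z, hzc, hz, smooth_transporter u₁ u₁ hQ z fun T g => (hzc.2.2 T g).trans ?_, this⟩
  refine forall_congr' fun T' => forall_congr' fun x => forall_congr' fun h => ?_
  rw [mul_inv_eq_iff_eq_mul]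

end

end Groth.Agent.SGA3x.K5.MTTransp
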