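import Groth.Agent.Sga3B.BorLoc613
import Groth.Agent.Sga3B.BcPts
import Groth.Agent.Sga3B.OverAff898
import Groth.Agent.Sga3B.RepDescent9
import Groth.Agent.Sga3B.IsoFam
import Groth.Agent.SGA3x.K10.MTLoc

/-!
# The locus where two homomorphisms between groups of multiplicative type agree is open and closed

* `exists_clopen`: a property of `S`-schemes which is stable under base change, étale local and étale locally
  on `S` either true or false on every nonempty scheme is the property of having image in an open and closed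
  subset of `S`;
* `exists_clopen_eq`: for two homomorphisms `f g : H ⟶ H'` between groups of multiplicative type and finite type
  there is an open and closed subset `U` of `S` such that `f_T = g_T` if and only if `T ⟶ S` factors through `U`;
* `exists_clopen_fam`: the same for families of homomorphisms parametrised by an `S`-scheme `X`.
-/

set_option autoImplicit false
universe u
open CategoryTheory MonoidalCategory CartesianMonoidalCategory MonObj GrpObj AlgebraicGeometry Limits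

namespace Groth.Agent.SGA3x.K5.Clopen

open Groth.Agent.Sga3B

section general

variable {S : Scheme.{u}}

/-- Morphisms agreeing on an étale covering family. -/
lemma hom_ext_of_etale {T Y : Over S} (a b : T ⟶ Y)
    (h : ∀ t : T.left, ∃ (V : Over S) (j : V ⟶ T), Etale j.left ∧ t ∈ Set.range j.left ∧ j ≫ a = j ≫ b) :
    a = b := by
  refine OverAff898.hom_ext_of_covers a b fun t => ?_
  obtain ⟨V, j, hj, ht, hab⟩ := h t
  let O : T.left.Opens := ⟨Set.range j.left, j.left.isOpenMap.isOpen_range⟩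
  let q : V.left ⟶ (O : Scheme.{u}) := IsOpenImmersion.lift O.ι j.left (by
    rw [Scheme.Opens.range_ι]
    rfl)
  have hq : q ≫ O.ι = j.left := IsOpenImmersion.lift_fac _ _ _
  have hqe : Etale q := by
    have h1 : Etale (q ≫ O.ι) := by rw [hq]; exact hj
    exact Etale.of_comp q O.ι
  have hqs : Surjective q := ⟨by
    rintro ⟨_, x, rfl⟩
    refine ⟨x, ?_⟩
    apply O.ι.isOpenEmbedding.injective
    rw [← Scheme.Hom.comp_apply, hq]
    rfl⟩
  have hepi : Epi q := Flat.epi_of_flat_of_surjective _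
  refine ⟨Over.mk (O.ι ≫ T.hom), Over.homMk O.ι rfl, ?_, ?_, ?_⟩
  · exact inferInstanceAs (IsOpenImmersion O.ι)
  · change t ∈ Set.range O.ι
    rw [Scheme.Opens.range_ι]
    exact ht
  · ext1
    have h1 : j.left ≫ a.left = j.left ≫ b.left := congrArg (fun z => Over.Hom.left z) hab
    change O.ι ≫ a.left = O.ι ≫ b.left
    rw [← cancel_epi q, ← Category.assoc, ← Category.assoc, hq, h1]

/-- A property which is stable under base change, étale local, and étale locally on the base either true or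
never true on nonempty schemes is given by an open and closed subset of the base. -/
theorem exists_clopen (P : Over S → Prop) (h1 : ∀ {T T' : Over S} (_ : T' ⟶ T), P T → P T')
    (h3 : ∀ T : Over S, (∀ t : T.left, ∃ (V : Over S) (j : V ⟶ T), Etale j.left ∧ t ∈ Set.range j.left ∧ P V) →
      P T)
    (h4 : ∀ s : S, ∃ V : Over S, Etale V.hom ∧ s ∈ Set.range V.hom ∧
      (P V ∨ ∀ (T : Over S) (_ : T ⟶ V), Nonempty T.left → ¬ P T)) :
    ∃ U : S.Opens, IsClosed (U : Set S) ∧ ∀ T : Over S, P T ↔ Set.range T.hom ⊆ (U : Set S) := by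
  -- the fibre product of two `S`-schemes
  have key : ∀ (V W : Over S) (v : V.left) (w : W.left), V.hom v = W.hom w →
      ∃ (Z : Over S) (a : Z ⟶ V) (b : Z ⟶ W) (z : Z.left), a.left z = v ∧ b.left z = w ∧
        (Etale W.hom → Etale a.left) := by
    intro V W v w h
    obtain ⟨z, hz1, hz2⟩ := Scheme.Pullback.exists_preimage_pullback (f := V.hom) (g := W.hom) v w h
    refine ⟨Over.mk (pullback.fst V.hom W.hom ≫ V.hom), Over.homMk (pullback.fst V.hom W.hom) rfl,
      Over.homMk (pullback.snd V.hom W.hom) pullback.condition.symm, z, hz1, hz2, fun hW => ?_⟩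
    exact inferInstanceAs (Etale (pullback.fst V.hom W.hom))
  let A : Set S := {s | ∃ V : Over S, Etale V.hom ∧ s ∈ Set.range V.hom ∧ P V}
  have hA : ∀ s ∉ A, ∃ V : Over S, Etale V.hom ∧ s ∈ Set.range V.hom ∧
      ∀ (T : Over S) (_ : T ⟶ V), Nonempty T.left → ¬ P T := by
    intro s hs
    obtain ⟨V, hV, hsV, h⟩ := h4 s
    exact ⟨V, hV, hsV, h.resolve_left fun hP => hs ⟨V, hV, hsV, hP⟩⟩
  have hopen : IsOpen A := by
    rw [isOpen_iff_forall_mem_open]
    rintro s ⟨V, hV, hs, hP⟩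
    exact ⟨Set.range V.hom, fun s' hs' => ⟨V, hV, hs', hP⟩, V.hom.isOpenMap.isOpen_range, hs⟩
  have hclosed : IsClosed A := by
    rw [← isOpen_compl_iff, isOpen_iff_forall_mem_open]
    intro s hs
    obtain ⟨V, hV, hsV, h⟩ := hA s hs
    refine ⟨Set.range V.hom, ?_, V.hom.isOpenMap.isOpen_range, hsV⟩
    rintro _ ⟨v, rfl⟩ ⟨W, hW, ⟨w, hw⟩, hP⟩
    obtain ⟨Z, a, b, z, -, -, -⟩ := key V W v w hw.symm
    exact h Z a ⟨z⟩ (h1 b hP)
  refine ⟨⟨A, hopen⟩, hclosed, fun T => ⟨fun hT => ?_, fun hT => ?_⟩⟩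
  · rintro _ ⟨t, rfl⟩
    by_contra hs
    obtain ⟨V, hV, ⟨v, hv⟩, h⟩ := hA _ hs
    obtain ⟨Z, a, b, z, -, -, -⟩ := key T V t v hv.symm
    exact h Z b ⟨z⟩ (h1 a hT)
  · refine h3 T fun t => ?_
    obtain ⟨V, hV, ⟨v, hv⟩, hP⟩ := hT ⟨t, rfl⟩
    obtain ⟨Z, a, b, z, hz, -, he⟩ := key T V t v hv.symm
    exact ⟨Z, a, he hV, ⟨z, hz⟩, h1 b hP⟩

/-- Two morphisms agree after base change to `T`. -/
def Eqz {X Y : Over S} (f g : X ⟶ Y) (T : Over S) : Prop :=
  ∀ (T' : Over S) (_ : T' ⟶ T) (q : T' ⟶ X), q ≫ f = q ≫ g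

lemma Eqz.comp {X Y : Over S} {f g : X ⟶ Y} {T T' : Over S} (t : T' ⟶ T) (h : Eqz f g T) : Eqz f g T' :=
  fun T'' b q => h T'' (b ≫ t) q

lemma Eqz.conj {X Y X' Y' : Over S} {f g : X ⟶ Y} {T : Over S} (h : Eqz f g T) (a : X' ⟶ X) (b : Y ⟶ Y') :
    Eqz (a ≫ f ≫ b) (a ≫ g ≫ b) T := by
  intro T' t q
  rw [← Category.assoc, ← Category.assoc, ← Category.assoc, ← Category.assoc, h T' t (q ≫ a)]

lemma Eqz.of_conj {X Y X' Y' : Over S} {f g : X ⟶ Y} {T : Over S} (e : X ≅ X') (e' : Y ≅ Y')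
    (h : Eqz (e.inv ≫ f ≫ e'.hom) (e.inv ≫ g ≫ e'.hom) T) : Eqz f g T := by
  have h1 := h.conj e.hom e'.inv
  simpa using h1

lemma Eqz.of_etale {X Y : Over S} {f g : X ⟶ Y} {T : Over S}
    (h : ∀ t : T.left, ∃ (V : Over S) (j : V ⟶ T), Etale j.left ∧ t ∈ Set.range j.left ∧ Eqz f g V) :
    Eqz f g T := by
  intro T' b q
  refine hom_ext_of_etale _ _ fun t' => ?_
  obtain ⟨V, j, hj, ⟨v, hv⟩, h⟩ := h (b.left t')
  obtain ⟨z, hz1, hz2⟩ := Scheme.Pullback.exists_preimage_pullback (f := b.left) (g := j.left) t' v hv.symm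
  let Z : Over S := Over.mk (pullback.fst b.left j.left ≫ T'.hom)
  let c : Z ⟶ T' := Over.homMk (pullback.fst b.left j.left) rfl
  let d : Z ⟶ V := Over.homMk (pullback.snd b.left j.left) (by
    change pullback.snd b.left j.left ≫ V.hom = pullback.fst b.left j.left ≫ T'.hom
    rw [← Over.w j, ← Over.w b, ← Category.assoc, ← Category.assoc, pullback.condition])
  refine ⟨Z, c, inferInstanceAs (Etale (pullback.fst b.left j.left)), ⟨z, hz1⟩, ?_⟩
  rw [← Category.assoc, ← Category.assoc]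
  exact h Z d (c ≫ q)

variable {S' : Scheme.{u}}

lemma Eqz.map {X Y : Over S} {f g : X ⟶ Y} (v : S' ⟶ S) {T : Over S'} (h : Eqz f g ((Over.map v).obj T)) :
    Eqz ((Over.pullback v).map f) ((Over.pullback v).map g) T := by
  intro T' b q
  apply (BcPts.bcEquiv v T' Y).symm.injective
  rw [BcPts.bcEquiv_symm_comp, BcPts.bcEquiv_symm_comp]
  exact h _ ((Over.map v).map b) _

lemma Eqz.of_map {X Y : Over S} {f g : X ⟶ Y} (v : S' ⟶ S) {T : Over S} (t : T ⟶ Over.mk v)
    (h : Eqz ((Over.pullback v).map f) ((Over.pullback v).map g) (Over.mk t.left)) : Eqz f g T := by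
  intro T' b q
  let b'' : Over.mk (b ≫ t).left ⟶ Over.mk t.left := Over.homMk b.left (by simp)
  have h1 := h _ b'' (BcPts.bcEquiv v _ X ((BcPts.overIso (b ≫ t)).hom ≫ q))
  rw [← BcPts.bcEquiv_comp, ← BcPts.bcEquiv_comp] at h1
  have h2 := (BcPts.bcEquiv v _ Y).injective h1
  rw [Category.assoc, Category.assoc] at h2
  exact (cancel_epi _).mp h2

end general

section DS

variable {S : Scheme.{u}}

/-- `φ ↦ D(φ)` is injective over any nonempty scheme. -/
theorem eq_of_DSmap {M N : Type} [AddCommGroup M] [AddCommGroup N] (φ φ' : N →+ M) (T : Over S) (t : T.left)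
    (h : Eqz (Red.DSmap S φ) (Red.DSmap S φ') T) : φ = φ' := by
  let κ := T.left.residueField t
  let A := MonoidAlgebra κ (Multiplicative M)
  let a : Spec (CommRingCat.of A) ⟶ T.left :=
    Spec.map (CommRingCat.ofHom (algebraMap κ A)) ≫ T.left.fromSpecResidueField t
  let T' : Over S := Over.mk (a ≫ T.hom)
  let b : T' ⟶ T := Over.homMk a rfl
  let r : A →+* Γ(T'.left, ⊤) := (Scheme.ΓSpecIso (CommRingCat.of A)).inv.hom
  have hr : Function.Injective r :=
    (ConcreteCategory.bijective_of_isIso (Scheme.ΓSpecIso (CommRingCat.of A)).inv).1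
  let χ : Multiplicative M →* Γ(T'.left, ⊤) :=
    (r : A →* Γ(T'.left, ⊤)).comp (MonoidAlgebra.of κ (Multiplicative M))
  have h1 := h T' b (DSPts.dsEquiv T' M χ)
  rw [DSPts.dsEquiv_DSmap, DSPts.dsEquiv_DSmap] at h1
  have h2 := (DSPts.dsEquiv T' N).injective h1
  ext n
  have h3 : r (MonoidAlgebra.single (Multiplicative.ofAdd (φ n)) 1) =
      r (MonoidAlgebra.single (Multiplicative.ofAdd (φ' n)) 1) :=
    DFunLike.congr_fun h2 (Multiplicative.ofAdd n)
  have h4 : MonoidAlgebra.of κ (Multiplicative M) (Multiplicative.ofAdd (φ n)) =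
    MonoidAlgebra.of κ (Multiplicative M) (Multiplicative.ofAdd (φ' n)) := hr h3
  exact Multiplicative.ofAdd.injective (MonoidAlgebra.of_injective h4)

/-- Locally on the base, two homomorphisms of diagonalisable groups agree or differ everywhere. -/
theorem exists_near_eqz {M N : Type} [AddCommGroup M] [AddCommGroup N] [Module.Finite ℤ N]
    (f g : Red.DS S M ⟶ Red.DS S N) [IsMonHom f] [IsMonHom g] (s : S) :
    ∃ W : S.Opens, s ∈ W ∧ ((∀ T : Over S, Set.range T.hom ⊆ (W : Set S) → Eqz f g T) ∨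
      ∀ T : Over S, Set.range T.hom ⊆ (W : Set S) → Nonempty T.left → ¬ Eqz f g T) := by
  obtain ⟨U₁, hs₁, φ, hφ⟩ := BorLoc613.exists_near f s
  obtain ⟨U₂, hs₂, ψ, hψ⟩ := BorLoc613.exists_near g s
  have hr : ∀ {T T' : Over S} (_ : T' ⟶ T), Set.range T'.hom ⊆ Set.range T.hom := by
    rintro T T' b _ ⟨z, rfl⟩
    rw [← Over.w b, Scheme.Hom.comp_apply]
    exact ⟨_, rfl⟩
  refine ⟨U₁ ⊓ U₂, ⟨hs₁, hs₂⟩, ?_⟩
  by_cases h : φ = ψ
  · refine Or.inl fun T hT T' b q => ?_
    rw [hφ T' q ((hr b).trans (hT.trans fun x hx => hx.1)), h,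
      hψ T' q ((hr b).trans (hT.trans fun x hx => hx.2))]
  · refine Or.inr fun T hT ⟨t⟩ hE => h ?_
    refine eq_of_DSmap φ ψ T t fun T' b q => ?_
    rw [← hφ T' q ((hr b).trans (hT.trans fun x hx => hx.1)), hE T' b q,
      hψ T' q ((hr b).trans (hT.trans fun x hx => hx.2))]

end DS

section main

variable {S : Scheme.{u}} {H H' : Over S} [GrpObj H] [GrpObj H']

/-- Two groups of multiplicative type are simultaneously split étale locally. -/
theorem exists_etale_split₂ (hH : SGA3x.IsMultTypeFT H) (hH' : SGA3x.IsMultTypeFT H') (s : S) :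
    ∃ (V : Scheme.{u}) (v : V ⟶ S) (M N : Type) (_ : AddCommGroup M) (_ : AddCommGroup N), Etale v ∧
      s ∈ Set.range v ∧ AddGroup.FG M ∧ AddGroup.FG N ∧
      Nonempty (Grp.mk (Red.bc v H) ≅ Grp.mk (Red.DS V M)) ∧
      Nonempty (Grp.mk (Red.bc v H') ≅ Grp.mk (Red.DS V N)) := by
  obtain ⟨B, _, v, M, _, hv, ⟨x, hx⟩, hM, ⟨e⟩⟩ := _root_.K10.MTLoc.exists_etale_split hH s
  obtain ⟨C, _, w, N, _, hw, ⟨y, hy⟩, hN, ⟨e'⟩⟩ :=
    _root_.K10.MTLoc.exists_etale_split (_root_.K10.MTLoc.bc v hH') x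
  refine ⟨_, w ≫ v, M, N, inferInstance, inferInstance, inferInstance, ⟨y, ?_⟩, hM, hN, ⟨?_⟩, ⟨?_⟩⟩
  · rw [Scheme.Hom.comp_apply, hy, hx]
  · exact (BcIso.bcCompIso w v H) ≪≫ BcIso.bcMapIso w e ≪≫ TorusAlgClosed.dsBcIso w M
  · exact (BcIso.bcCompIso w v H') ≪≫ e'

/-- **The locus where two homomorphisms of groups of multiplicative type agree is open and closed.** -/
theorem exists_clopen_eq (hH : SGA3x.IsMultTypeFT H) (hH' : SGA3x.IsMultTypeFT H') (f g : H ⟶ H') [IsMonHom f]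
    [IsMonHom g] : ∃ U : S.Opens, IsClosed (U : Set S) ∧ ∀ T : Over S, Eqz f g T ↔
      Set.range T.hom ⊆ (U : Set S) := by
  refine exists_clopen (fun T => Eqz f g T) (fun t h => h.comp t) (fun T h => Eqz.of_etale h) fun s => ?_
  obtain ⟨V, v, M, N, _, _, hv, ⟨y, hy⟩, hM, hN, ⟨e⟩, ⟨e'⟩⟩ := exists_etale_split₂ hH hH' s
  have hfin : Module.Finite ℤ N := Module.Finite.iff_addGroup_fg.mpr hN
  let ε : Red.bc v H ≅ Red.DS V M := (Grp.forget _).mapIso e
  let ε' : Red.bc v H' ≅ Red.DS V N := (Grp.forget _).mapIso e'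
  have hε : IsMonHom ε.inv := inferInstanceAs (IsMonHom e.inv.hom.hom)
  have hε' : IsMonHom ε'.hom := inferInstanceAs (IsMonHom e'.hom.hom.hom)
  obtain ⟨W, hyW, h⟩ := exists_near_eqz (ε.inv ≫ (Over.pullback v).map f ≫ ε'.hom)
    (ε.inv ≫ (Over.pullback v).map g ≫ ε'.hom) y
  refine ⟨Over.mk (W.ι ≫ v), ?_, ?_, ?_⟩
  · exact inferInstanceAs (Etale (W.ι ≫ v))
  · refine ⟨⟨y, hyW⟩, ?_⟩
    exact (Scheme.Hom.comp_apply W.ι v _).trans hy
  · let w : Over.mk (W.ι ≫ v) ⟶ Over.mk v := Over.homMk W.ι rfl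
    rcases h with h | h
    · refine Or.inl (Eqz.of_map v w (Eqz.of_conj ε ε' (h _ ?_)))
      change Set.range W.ι ⊆ _
      rw [Scheme.Opens.range_ι]
    · refine Or.inr fun T t hT hE => ?_
      refine h (Over.mk (t ≫ w).left) ?_ hT ?_
      · rintro _ ⟨z, rfl⟩
        change (t.left ≫ W.ι) z ∈ _
        rw [Scheme.Hom.comp_apply]
        exact (t.left z).2
      · refine Eqz.conj (Eqz.map v ?_) _ _
        exact hE.comp (BcPts.overIso (t ≫ w)).hom

end main

section fam

variable {S : Scheme.{u}} {H H' : Over S} [GrpObj H] [GrpObj H'] {X : Over S}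

/-- An `X`-scheme, viewed as an `S`-scheme, maps to `X`. -/
noncomputable def st (T : Over X.left) : (Over.map X.hom).obj T ⟶ X :=
  Over.homMk T.hom (by simp)

lemma map_st {T T' : Over X.left} (t : T' ⟶ T) : (Over.map X.hom).map t ≫ st T = st T' := by
  ext1
  simp [st]

/-- The morphism of base changes given by a family of morphisms. -/
noncomputable def famMap (χ : H ⊗ X ⟶ H') : Red.bc X.hom H ⟶ Red.bc X.hom H' :=
  BcPts.bcEquiv X.hom _ _ (lift ((BcPts.bcEquiv X.hom _ H).symm (𝟙 _)) (st _) ≫ χ)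

omit [GrpObj H] [GrpObj H'] in
lemma comp_famMap (χ : H ⊗ X ⟶ H') {T : Over X.left} (q : T ⟶ Red.bc X.hom H) :
    q ≫ famMap χ = BcPts.bcEquiv X.hom _ _ (lift ((BcPts.bcEquiv X.hom _ H).symm q) (st T) ≫ χ) := by
  unfold famMap
  rw [← BcPts.comp_bcEquiv, ← Category.assoc, comp_lift, ← BcPts.comp_bcEquiv_symm, Category.comp_id, map_st]

lemma isMonHom_famMap {χ : H ⊗ X ⟶ H'} (h : AutFam.IsHomFamily H H' χ) : IsMonHom (famMap χ) := by
  refine IsoFam.isMonHom_of_mul _ fun T x y => ?_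
  rw [comp_famMap, comp_famMap, comp_famMap, ← BcPts.bcEquiv_mul, ← h]
  congr 3
  exact (BcPts.bcMulEquiv X.hom T H).symm.map_mul x y

/-- **The locus where two families of homomorphisms between groups of multiplicative type agree is open and
closed.** -/
theorem exists_clopen_fam (hH : SGA3x.IsMultTypeFT H) (hH' : SGA3x.IsMultTypeFT H') {χ χ' : H ⊗ X ⟶ H'}
    (h : AutFam.IsHomFamily H H' χ) (h' : AutFam.IsHomFamily H H' χ') :
    ∃ U : X.left.Opens, IsClosed (U : Set X.left) ∧ ∀ (T : Over S) (x : T ⟶ X),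
      (∀ (T' : Over S) (b : T' ⟶ T) (q : T' ⟶ H), lift q (b ≫ x) ≫ χ = lift q (b ≫ x) ≫ χ') ↔
      Set.range x.left ⊆ (U : Set X.left) := by
  have h1 := isMonHom_famMap h
  have h2 := isMonHom_famMap h'
  obtain ⟨U, hU, hU'⟩ := exists_clopen_eq (_root_.K10.MTLoc.bc X.hom hH) (_root_.K10.MTLoc.bc X.hom hH')
    (famMap χ) (famMap χ')
  refine ⟨U, hU, fun T x => ?_⟩
  rw [← show (Over.mk x.left).hom = x.left from rfl, ← hU' (Over.mk x.left)]
  constructor
  · intro hT T₁ b q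
    rw [comp_famMap, comp_famMap]
    congr 1
    let c : (Over.map X.hom).obj T₁ ⟶ T := Over.homMk b.left (by
      have h3 : b.left ≫ x.left = T₁.hom := Over.w b
      rw [← Over.w x, ← Category.assoc, h3, Over.map_obj_hom])
    have h4 : c ≫ x = st T₁ := by
      ext1
      exact Over.w b
    rw [← h4]
    exact hT _ c _
  · intro hT T' b q
    let T₁ : Over X.left := Over.mk (b ≫ x).left
    let b₁ : T₁ ⟶ Over.mk x.left := Over.homMk b.left rfl
    let e : (Over.map X.hom).obj T₁ ≅ T' := Over.isoMk (Iso.refl _) (by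
      change 𝟙 _ ≫ T'.hom = (b ≫ x).left ≫ X.hom
      rw [Over.w, Category.id_comp])
    have he : e.hom ≫ b ≫ x = st T₁ := by
      ext1
      exact Category.id_comp _
    have h3 := hT T₁ b₁ (BcPts.bcEquiv X.hom T₁ H (e.hom ≫ q))
    rw [comp_famMap, comp_famMap] at h3
    have h4 := (BcPts.bcEquiv X.hom _ _).injective h3
    rw [Equiv.symm_apply_apply, ← he, ← comp_lift, Category.assoc, Category.assoc] at h4
    exact (cancel_epi _).mp h4

end fam

end Groth.Agent.SGA3x.K5.Clopen
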