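import Groth.Agent.SGA3x.K5.GradTriv
import Groth.Agent.Sga3B.AdPts
import Groth.Agent.SGA3x.K5.Clopen
import Groth.Agent.Sga3C.SchemImage

/-!
# Actions of diagonalizable groups on affine schemes are gradings

`IsAct α`: `α : X ⊗ H ⟶ X` is a right action.  `coact α hα`: the grading attached to an action of `D(N)` on an affine
scheme over an affine base.  `eq_fst_of_fibres`: an action of `D(N)` on an affine scheme of finite type which is trivial
on all fibres is trivial.
-/

set_option autoImplicit false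
universe u
open CategoryTheory MonoidalCategory CartesianMonoidalCategory MonObj GrpObj AlgebraicGeometry Limits

namespace Groth.Agent.SGA3x.K5.ActTriv

open Groth.Agent.Sga3B FreeBC DSPts AdGrad AdPts
open scoped TensorProduct

/-- `α : X ⊗ H ⟶ X` is a right action of the group `H` on `X`. -/
structure IsAct {S : Scheme.{u}} {X H : Over S} [GrpObj H] (α : X ⊗ H ⟶ X) : Prop where
  one : ∀ {T : Over S} (x : T ⟶ X), lift x 1 ≫ α = x
  mul : ∀ {T : Over S} (x : T ⟶ X) (h h' : T ⟶ H), lift (lift x h ≫ α) h' ≫ α = lift x (h * h') ≫ α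

section affine

variable {R A : Type u} [CommRing R] [CommRing A] [Algebra R A] {N : Type} [AddCommGroup N]

variable (α : DE R A ⊗ Red.DS (Spec (CommRingCat.of R)) N ⟶ DE R A)

/-- the coaction as a ring map -/
noncomputable def rhoHom : A →+* MonoidAlgebra A (Multiplicative N) :=
  ((RingEquiv.ofBijective _ (fn_id_bijective (R := R) (MonoidAlgebra A (Multiplicative N)))).symm :
    _ →+* MonoidAlgebra A (Multiplicative N)).comp (fn (lift (gU R A N) (tU R A N) ≫ α))

lemma fn_rhoHom (a : A) : fn (𝟙 (U R A N)) (rhoHom α a) = fn (lift (gU R A N) (tU R A N) ≫ α) a :=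
  (RingEquiv.ofBijective _ (fn_id_bijective (R := R) (MonoidAlgebra A (Multiplicative N)))).apply_symm_apply _

/-- the coaction attached to an action -/
noncomputable def rho : A →ₐ[R] MonoidAlgebra A (Multiplicative N) where
  __ := rhoHom α
  commutes' r := (fn_id_bijective (R := R) _).1 (by
    refine (fn_rhoHom α _).trans ?_
    rw [fn_algebraMap, fn_algebraMap])

lemma fn_rho (a : A) : fn (𝟙 (U R A N)) (rho α a) = fn (lift (gU R A N) (tU R A N) ≫ α) a := fn_rhoHom α a

/-- the action on functions -/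
lemma fn_act {X : Over (Spec (CommRingCat.of R))} (g : X ⟶ DE R A) (t : X ⟶ Red.DS (Spec (CommRingCat.of R)) N)
    (a : A) : fn (lift g t ≫ α) a = lft (fn g) (dsChar t) (rho α a) := by
  obtain ⟨v, h1, h2, h3⟩ := exists_pair g t
  rw [← h3, fn_eq v, fn_rho, ← fn_comp, ← Category.assoc, comp_lift, h1, h2]

variable {α} (hα : IsAct α)
include hα

lemma rho_counit (a : A) : ((rho α a).coeff.sum fun _ b => b) = a := by
  have h := fn_act α (𝟙 (DE R A)) 1 a
  rw [hα.one, lft_apply] at h
  apply (fn_id_bijective (R := R) A).1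
  rw [h, Finsupp.sum, Finsupp.sum, map_sum]
  refine Finset.sum_congr rfl fun n _ => ?_
  have : dsChar (1 : DE R A ⟶ Red.DS (Spec (CommRingCat.of R)) N) = 1 := by
    simp [dsChar]
  rw [this, MonoidHom.one_apply, _root_.mul_one]

lemma rho_coassoc (a : A) (m : Multiplicative N) :
    rho α ((rho α a).coeff m) = MonoidAlgebra.single m ((rho α a).coeff m) := by
  let T := MonoidAlgebra (MonoidAlgebra A (Multiplicative N)) (Multiplicative N)
  -- the map to the universal pair
  obtain ⟨w, hw⟩ := exists_of_ringHom (R := R) (E := MonoidAlgebra A (Multiplicative N)) (X := DE R T)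
    ((fn (𝟙 (DE R T))).comp (algebraMap (MonoidAlgebra A (Multiplicative N)) T)) (by
      intro r
      rw [RingHom.comp_apply, ← IsScalarTower.algebraMap_apply R (MonoidAlgebra A (Multiplicative N)) T]
      exact fn_algebraMap _ _)
  let t₂ : DE R T ⟶ Red.DS (Spec (CommRingCat.of R)) N :=
    dsEquiv _ _ (((fn (𝟙 (DE R T))) : _ →* _).comp (MonoidAlgebra.of (MonoidAlgebra A (Multiplicative N)) (Multiplicative N)))
  have ht₂ : ∀ n, dsChar t₂ n = fn (𝟙 (DE R T)) (MonoidAlgebra.single n 1) := fun n => by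
    simp only [t₂]
    rw [dsChar_dsEquiv]
    rfl
  have key : lift (lift (w ≫ gU R A N) (w ≫ tU R A N) ≫ α) t₂ ≫ α =
      lift (w ≫ gU R A N) ((w ≫ tU R A N) * t₂) ≫ α := hα.mul _ _ _
  have h1 : ∀ b, fn (lift (w ≫ gU R A N) (w ≫ tU R A N) ≫ α) b =
      fn (𝟙 _) (MonoidAlgebra.single 1 (rho α b) : T) := by
    intro b
    rw [← comp_lift, Category.assoc, fn_comp, ← fn_rho, ← fn_comp, Category.comp_id, hw]
    rfl
  have h2 : fn (lift (lift (w ≫ gU R A N) (w ≫ tU R A N) ≫ α) t₂ ≫ α) a =
      fn (𝟙 _) ((rho α a).coeff.sum fun n b => (MonoidAlgebra.single n (rho α b) : T)) := by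
    rw [fn_act, lft_apply, Finsupp.sum, Finsupp.sum, map_sum]
    refine Finset.sum_congr rfl fun n _ => ?_
    rw [h1, ht₂, ← _root_.map_mul, MonoidAlgebra.single_mul_single, _root_.one_mul, _root_.mul_one]
  have h3 : ∀ b, fn (w ≫ gU R A N) b = fn (𝟙 _) (MonoidAlgebra.single 1 (MonoidAlgebra.single 1 b) : T) := by
    intro b
    rw [fn_comp, fn_gU, ← fn_eq, hw]
    rfl
  have h4 : ∀ n, dsChar (w ≫ tU R A N) n =
      fn (𝟙 (DE R T)) (MonoidAlgebra.single 1 (MonoidAlgebra.single n 1) : T) := by
    intro n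
    rw [dsChar_comp]
    refine (congrArg w.left.appTop (dsChar_tU n)).trans ?_
    rw [← fn_eq, hw]
    rfl
  have h5 : fn (lift (w ≫ gU R A N) ((w ≫ tU R A N) * t₂) ≫ α) a =
      fn (𝟙 _) ((rho α a).coeff.sum fun n b => (MonoidAlgebra.single n (MonoidAlgebra.single n b) : T)) := by
    rw [fn_act, lft_apply, Finsupp.sum, Finsupp.sum, map_sum]
    refine Finset.sum_congr rfl fun n _ => ?_
    rw [h3, dsChar_mul, MonoidHom.mul_apply, h4, ht₂, ← _root_.map_mul, ← _root_.map_mul,
      MonoidAlgebra.single_mul_single, MonoidAlgebra.single_mul_single]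
    simp only [_root_.one_mul, _root_.mul_one]
    rw [MonoidAlgebra.single_mul_single, _root_.one_mul, _root_.mul_one]
  rw [key, h5] at h2
  have h6 := (fn_id_bijective (R := R) T).1 h2
  have h7 := congrArg (fun y : T => y.coeff m) h6
  rw [coeff_sum_single (B := MonoidAlgebra A (Multiplicative N)) (rho α a)
      (fun n b => MonoidAlgebra.single n b) (by simp) m,
    coeff_sum_single (B := MonoidAlgebra A (Multiplicative N)) (rho α a)
      (fun n b => rho α b) (by simp) m] at h7
  exact h7.symm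

/-- the coaction attached to an action of `D(N)` on `Spec A`. -/
noncomputable def coact : Coact R A N where
  ρ := rho α
  counit := rho_counit hα
  coassoc := rho_coassoc hα

/-- **An action of `D(N)` on an affine scheme of finite type which is trivial on all fibres is trivial.** -/
theorem eq_fst_of_fibres [Algebra.FiniteType R A]
    (hf : ∀ (K : Type u) [Field K] [Algebra R K] (T : Over (Spec (CommRingCat.of R))) (_ : T ⟶ DE R K)
      (x : T ⟶ DE R A) (h : T ⟶ Red.DS (Spec (CommRingCat.of R)) N), lift x h ≫ α = x) : α = fst _ _ := by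
  have key : ∀ a : A, (coact hα).IsHom 0 a := by
    refine GradTriv.isHom_zero_of_fibres (coact hα) fun K _ _ n a hn ha => ?_
    let E := MonoidAlgebra (K ⊗[R] A) (Multiplicative N)
    let T := DE R E
    obtain ⟨b, -⟩ := exists_of_ringHom (R := R) (E := K) (X := T) ((fn (𝟙 T)).comp
      ((algebraMap (K ⊗[R] A) E).comp (algebraMap K (K ⊗[R] A)))) (by
        intro r
        rw [RingHom.comp_apply, RingHom.comp_apply, ← IsScalarTower.algebraMap_apply R K (K ⊗[R] A),
          ← IsScalarTower.algebraMap_apply R (K ⊗[R] A) E]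
        exact fn_algebraMap _ _)
    obtain ⟨x, hx⟩ := exists_of_ringHom (R := R) (E := A) (X := T) ((fn (𝟙 T)).comp
      ((algebraMap (K ⊗[R] A) E).comp (Algebra.TensorProduct.includeRight : A →ₐ[R] K ⊗[R] A).toRingHom)) (by
        intro r
        rw [RingHom.comp_apply, RingHom.comp_apply]
        have h1 : (Algebra.TensorProduct.includeRight : A →ₐ[R] K ⊗[R] A).toRingHom (algebraMap R A r) =
          algebraMap R (K ⊗[R] A) r := AlgHom.commutes _ _
        rw [h1, ← IsScalarTower.algebraMap_apply R (K ⊗[R] A) E]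
        exact fn_algebraMap _ _)
    let t : T ⟶ Red.DS (Spec (CommRingCat.of R)) N :=
      dsEquiv _ _ (((fn (𝟙 T)) : _ →* _).comp (MonoidAlgebra.of (K ⊗[R] A) (Multiplicative N)))
    have ht : ∀ n, dsChar t n = fn (𝟙 T) (MonoidAlgebra.single n 1) := fun n => by
      simp only [t]
      rw [dsChar_dsEquiv]
      rfl
    have h1 : rho α a = MonoidAlgebra.single (Multiplicative.ofAdd n) a := ha
    have h2 := fn_act α x t a
    rw [hf K T b x t, h1, lft_single, hx, ht] at h2
    have h3 : (fn (𝟙 T)) (MonoidAlgebra.single (1 : Multiplicative N) ((1 : K) ⊗ₜ[R] a)) =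
        (fn (𝟙 T)) (MonoidAlgebra.single (1 : Multiplicative N) ((1 : K) ⊗ₜ[R] a)) *
          fn (𝟙 T) (MonoidAlgebra.single (Multiplicative.ofAdd n) 1) := h2
    rw [← _root_.map_mul, MonoidAlgebra.single_mul_single, _root_.one_mul, _root_.mul_one] at h3
    have h4 := (fn_id_bijective (R := R) E).1 h3
    have h5 := congrArg (fun y : E => y.coeff 1) h4
    simp only [MonoidAlgebra.coeff_single] at h5
    rw [Finsupp.single_eq_same, Finsupp.single_eq_of_ne] at h5
    · exact h5
    · intro h6
      apply hn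
      simpa using h6.symm
  apply fn_injective
  intro a
  have h1 : lift (fst (DE R A) (Red.DS (Spec (CommRingCat.of R)) N)) (snd _ _) ≫ α = α := by
    rw [lift_fst_snd, Category.id_comp]
  have h2 : rho α a = MonoidAlgebra.single (Multiplicative.ofAdd 0) a := key a
  rw [← h1, fn_act, h2, lft_single, ofAdd_zero, _root_.map_one, _root_.mul_one]

end affine

section glue

variable {R : Type u} [CommRing R] {N : Type} [AddCommGroup N]

lemma exists_affine_nhd (T : Over (Spec (CommRingCat.of R))) (t : T.left) :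
    ∃ (A : Type u) (_ : CommRing A) (_ : Algebra R A) (j : DE R A ⟶ T),
      IsOpenImmersion j.left ∧ t ∈ Set.range j.left :=
  OverAff898.exists_affine_nhd T t

lemma exists_field_point (T : Over (Spec (CommRingCat.of R))) (t : T.left) :
    ∃ (K : Type u) (_ : Field K) (_ : Algebra R K) (j : DE R K ⟶ T), t ∈ Set.range j.left := by
  obtain ⟨K, _, _, j, hj⟩ := OverAff898.exists_field_point T t
  exact ⟨K, inferInstance, inferInstance, j, by
    have h : t ∈ Set.range j.left := by
      rw [hj]
      rfl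
    exact h⟩

/-- **An action of `D(N)` on a scheme locally of finite type over an affine base which is trivial on all fibres is
trivial.** -/
theorem eq_fst_of_fibres' {X : Over (Spec (CommRingCat.of R))} [LocallyOfFiniteType X.hom]
    {α : X ⊗ Red.DS (Spec (CommRingCat.of R)) N ⟶ X} (hα : IsAct α)
    (hf : ∀ (K : Type u) [Field K] [Algebra R K] (T : Over (Spec (CommRingCat.of R))) (_ : T ⟶ DE R K)
      (x : T ⟶ X) (h : T ⟶ Red.DS (Spec (CommRingCat.of R)) N), lift x h ≫ α = x) : α = fst _ _ := by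
  -- `α` is the first projection on the underlying spaces
  have htop : ∀ z, α.left z = (fst X (Red.DS (Spec (CommRingCat.of R)) N)).left z := by
    intro z
    obtain ⟨K, _, _, j, ⟨y, rfl⟩⟩ := exists_field_point (X ⊗ Red.DS (Spec (CommRingCat.of R)) N) z
    have h1 := hf K (DE R K) (𝟙 _) (j ≫ fst _ _) (j ≫ snd _ _)
    rw [← comp_lift, lift_fst_snd, Category.comp_id] at h1
    rw [← Scheme.Hom.comp_apply, ← Scheme.Hom.comp_apply, ← Over.comp_left, ← Over.comp_left, h1]
  refine OverAff898.hom_ext_of_covers _ _ fun z => ?_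
  obtain ⟨A, _, _, j, hj, ⟨a, ha⟩⟩ := exists_affine_nhd X ((fst X _).left z)
  have hmono : Mono j := Over.mono_of_mono_left j
  have hft : Algebra.FiniteType R A := by
    have h1 : LocallyOfFiniteType (j.left ≫ X.hom) := inferInstance
    rw [Over.w] at h1
    have h2 : LocallyOfFiniteType (Spec.map (CommRingCat.ofHom (algebraMap R A))) := h1
    rw [HasRingHomProperty.Spec_iff (P := @LocallyOfFiniteType)] at h2
    simp only [CommRingCat.hom_ofHom] at h2
    exact RingHom.finiteType_algebraMap.mp h2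
  -- the open subset is stable
  obtain ⟨α', hα'⟩ := OverAff898.exists_lift j ((j ▷ Red.DS (Spec (CommRingCat.of R)) N) ≫ α) (by
    rintro _ ⟨w, rfl⟩
    rw [Over.comp_left, Scheme.Hom.comp_apply, htop, ← Scheme.Hom.comp_apply, ← Over.comp_left,
      whiskerRight_fst, Over.comp_left, Scheme.Hom.comp_apply]
    exact ⟨_, rfl⟩)
  have hpt : ∀ {T : Over (Spec (CommRingCat.of R))} (x : T ⟶ DE R A)
      (h : T ⟶ Red.DS (Spec (CommRingCat.of R)) N), (lift x h ≫ α') ≫ j = lift (x ≫ j) h ≫ α := by
    intro T x h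
    rw [Category.assoc, hα', ← Category.assoc, lift_whiskerRight]
  have h1 : IsAct α' :=
    { one := fun x => by rw [← cancel_mono j, hpt, hα.one]
      mul := fun x h h' => by rw [← cancel_mono j, hpt, hpt, hpt, hα.mul] }
  have h2 : α' = fst _ _ := eq_fst_of_fibres h1 fun K _ _ T t x h => by
    rw [← cancel_mono j, hpt, hf K T t]
  have hpb := (Sga3C.SchemImage.isPullback_whiskerRight j (Red.DS (Spec (CommRingCat.of R)) N)).map
    (Over.forget _)
  refine ⟨_, j ▷ Red.DS (Spec (CommRingCat.of R)) N, ?_, ?_, ?_⟩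
  · exact MorphismProperty.of_isPullback hpb.flip hj
  · obtain ⟨w, -, hw⟩ := Scheme.exists_preimage_of_isPullback hpb.flip a z ha
    exact ⟨w, hw⟩
  · rw [← hα', h2, whiskerRight_fst]

end glue

section general

variable {S : Scheme.{u}}

/-- Morphisms agreeing étale locally on the base are equal. -/
lemma eq_of_eqz {X Y : Over S} {f g : X ⟶ Y}
    (h : ∀ s : S, ∃ V : Over S, Etale V.hom ∧ s ∈ Set.range V.hom ∧ Clopen.Eqz f g V) : f = g := by
  refine Clopen.hom_ext_of_etale f g fun x => ?_
  obtain ⟨V, hV, ⟨v, hv⟩, h⟩ := h (X.hom x)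
  obtain ⟨z, hz1, -⟩ := Scheme.Pullback.exists_preimage_pullback (f := X.hom) (g := V.hom) x v hv.symm
  let Z : Over S := Over.mk (pullback.fst X.hom V.hom ≫ X.hom)
  let c : Z ⟶ X := Over.homMk (pullback.fst X.hom V.hom) rfl
  let d : Z ⟶ V := Over.homMk (pullback.snd X.hom V.hom) pullback.condition.symm
  exact ⟨Z, c, inferInstanceAs (Etale (pullback.fst X.hom V.hom)), ⟨z, hz1⟩, h Z d c⟩

variable {X H : Over S} [GrpObj H]

/-- **An action of a group of multiplicative type and of finite type on a scheme locally of finite type which is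
trivial on all fibres is trivial.** -/
theorem act_eq_fst_of_fibres [LocallyOfFiniteType X.hom] (hH : SGA3x.IsMultTypeFT H) {α : X ⊗ H ⟶ X}
    (hα : IsAct α)
    (hf : ∀ (K : Type u) [Field K] (t : Spec (CommRingCat.of K) ⟶ S), Clopen.Eqz α (fst X H) (Over.mk t)) :
    α = fst X H := by
  refine eq_of_eqz fun s => ?_
  obtain ⟨B, _, v, M, _, hv, hs, -, ⟨e⟩⟩ := _root_.K10.MTLoc.exists_etale_split hH s
  refine ⟨Over.mk v, hv, hs, ?_⟩
  let ε : Red.bc v H ≅ Red.DS (Spec (CommRingCat.of B)) M := (Grp.forget _).mapIso e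
  have hε : IsMonHom ε.inv := inferInstanceAs (IsMonHom e.inv.hom.hom)
  let α' : Red.bc v X ⊗ Red.DS (Spec (CommRingCat.of B)) M ⟶ Red.bc v X :=
    BcPts.bcEquiv v _ X (lift ((BcPts.bcEquiv v _ X).symm (fst _ _))
      ((BcPts.bcEquiv v _ H).symm (snd _ _ ≫ ε.inv)) ≫ α)
  have hpt : ∀ {T : Over (Spec (CommRingCat.of B))} (x : T ⟶ Red.bc v X)
      (h : T ⟶ Red.DS (Spec (CommRingCat.of B)) M), lift x h ≫ α' =
        BcPts.bcEquiv v _ X (lift ((BcPts.bcEquiv v _ X).symm x)
          ((BcPts.bcEquiv v _ H).symm (h ≫ ε.inv)) ≫ α) := by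
    intro T x h
    simp only [α']
    rw [← BcPts.comp_bcEquiv, ← Category.assoc, comp_lift, ← BcPts.comp_bcEquiv_symm,
      ← BcPts.comp_bcEquiv_symm, lift_fst, ← Category.assoc, lift_snd]
  have hlft : LocallyOfFiniteType (Red.bc v X).hom := inferInstanceAs (LocallyOfFiniteType (pullback.snd X.hom v))
  have h1 : IsAct α' :=
    { one := fun {T} x => by
        rw [hpt, MonObj.one_comp]
        have h2 : (BcPts.bcEquiv v T H).symm 1 = 1 := (BcPts.bcMulEquiv v T H).symm.map_one
        rw [h2, hα.one, Equiv.apply_symm_apply]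
      mul := fun {T} x h h' => by
        rw [hpt, hpt, hpt, Equiv.symm_apply_apply, hα.mul, MonObj.mul_comp]
        congr 3
        exact ((BcPts.bcMulEquiv v T H).symm.map_mul _ _).symm }
  have h2 : α' = fst _ _ := eq_fst_of_fibres' h1 fun K _ _ T t x h => by
    have h3 := hf K (Spec.map (CommRingCat.ofHom (algebraMap B K)) ≫ v) ((Over.map v).obj T)
      (Over.homMk t.left (by
        have h4 : t.left ≫ Spec.map (CommRingCat.ofHom (algebraMap B K)) = T.hom := Over.w t
        change t.left ≫ _ ≫ v = T.hom ≫ v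
        rw [← Category.assoc, h4])) (lift ((BcPts.bcEquiv v _ X).symm x)
          ((BcPts.bcEquiv v _ H).symm (h ≫ ε.inv)))
    rw [hpt, h3, lift_fst, Equiv.apply_symm_apply]
  intro T' b q
  have h3 := hpt (BcPts.bcEquiv v (Over.mk b.left) X ((BcPts.overIso b).hom ≫ q ≫ fst _ _))
    (BcPts.bcEquiv v (Over.mk b.left) H ((BcPts.overIso b).hom ≫ q ≫ snd _ _) ≫ ε.hom)
  rw [h2, lift_fst, Equiv.symm_apply_apply, Category.assoc, ε.hom_inv_id, Category.comp_id,
    Equiv.symm_apply_apply] at h3
  have h4 := (BcPts.bcEquiv v _ X).injective h3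
  rw [← comp_lift, ← comp_lift, lift_fst_snd, Category.comp_id, Category.assoc] at h4
  exact ((cancel_epi _).mp h4).symm

end general

end Groth.Agent.SGA3x.K5.ActTriv
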