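import Groth.Agent.SGA3x.K5.MTTransp
import Groth.Agent.SGA3x.K6.Basic
import Groth.Agent.SGA3x.K10.MTLoc
import Groth.Agent.Sga3B.AdCentre
import Groth.Agent.Sga3B.RepDescent9
import Groth.Agent.Flat2D.LfpComp

/-!
# Subgroups of multiplicative type of affine group schemes: closedness, normalizers

* `isClosedImmersion_of_mono`: a homomorphism from a group of multiplicative type and of finite type to an affine
  group which is a monomorphism is a closed immersion, over any base;
* `exists_normalizer`: the normalizer of a closed subgroup of multiplicative type of a smooth separated group is a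
  closed subgroup of finite presentation, smooth over the base.
-/

set_option autoImplicit false
universe u
open CategoryTheory MonoidalCategory CartesianMonoidalCategory MonObj GrpObj AlgebraicGeometry Limits

namespace Groth.Agent.SGA3x.K5.MTNorm

open Groth.Agent.Sga3B Groth.Agent.Sga3B.CentRep Groth.Agent.Sga3B.CentLift
open Groth.Agent.Sga3B.CentSmooth Groth.Agent.Sga3.H817.WeilProj

variable {S : Scheme.{u}} {G H : Over S} [GrpObj G] [GrpObj H]

/-- **A monomorphism from a group of multiplicative type to an affine group is a closed immersion.** -/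
theorem isClosedImmersion_of_mono [IsAffineHom G.hom] (i : H ⟶ G) [IsMonHom i] [Mono i]
    (hH : SGA3x.IsMultTypeFT H) : IsClosedImmersion i.left := by
  refine RepDescent.of_etale_cover (P := @IsClosedImmersion) i.left fun x => ?_
  obtain ⟨B, _, v, M, _, hv, hx, -, hr⟩ := _root_.K10.MTLoc.exists_etale_split hH (G.hom x)
  have h0 : IsAffineHom (Red.bc v G).hom := inferInstanceAs (IsAffineHom (pullback.snd G.hom v))
  have h1 : IsClosedImmersion ((Over.pullback v).map i).left :=
    AdCentre.isClosedImmersion_of_mono h0 ((Over.pullback v).map i) hr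
  have h2 := _root_.K6.Basic.isPullback_map v i
  obtain ⟨y, hy⟩ := hx
  obtain ⟨w, hw, -⟩ := Scheme.Pullback.exists_preimage_pullback (f := G.hom) (g := v) x y hy.symm
  refine ⟨pullback G.hom v, pullback.fst G.hom v, inferInstance, ⟨w, hw⟩, ?_⟩
  exact (MorphismProperty.arrow_mk_iso_iff (@IsClosedImmersion) (Arrow.isoMk h2.isoPullback (Iso.refl _)
    ((h2.isoPullback_hom_snd).trans (Category.comp_id _).symm))).mp h1

/-- The normalizer of a closed subgroup of multiplicative type of a smooth group is smooth. -/
theorem smooth_normalizer [Smooth G.hom] [IsSeparated G.hom] (i : H ⟶ G) [IsMonHom i] [Mono i]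
    (hH : SGA3x.IsMultTypeFT H) {N : Over S} (n : N ⟶ G)
    [GrpObj N] (hn : Red.IsNormalizerOf i n) [LocallyOfFinitePresentation n.left] : Smooth N.hom := by
  obtain ⟨-, hn', hn⟩ := hn
  obtain ⟨S', f, hf, hs, hc, h⟩ := hH
  refine smooth_of_lift n (fun T => normPts i T) hn f hc fun s' => ?_
  obtain ⟨U, hU, M, _, -, hr⟩ := h s'
  refine ⟨U, hU, fun B _ _ I hI x β hx g₁ hg₁ => ?_⟩
  subst hx
  exact norm_lift i I hI _ (isSplit_bc _ β hr) g₁ hg₁

/-- **The normalizer of a closed subgroup of multiplicative type** of a smooth separated group. -/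
theorem exists_normalizer [Smooth G.hom] [IsSeparated G.hom] (i : H ⟶ G) [IsMonHom i] [IsClosedImmersion i.left]
    (hH : SGA3x.IsMultTypeFT H) :
    ∃ (N : Over S) (_ : GrpObj N) (n : N ⟶ G), Red.IsNormalizerOf i n ∧ IsClosedImmersion n.left ∧
      Smooth N.hom ∧ LocallyOfFinitePresentation n.left := by
  have haff := Sga3.H829.MultConv.isAffineHom_of_isMultTypeFT hH
  have hmono : Mono i := Over.mono_of_mono_left i
  obtain ⟨N, i1, n, hn, hnn, hfp⟩ :=
    Sga3.H817.CentRepProj.exists_normalizer i (MTProj.locProj_of_isMultTypeFT hH)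
  have hlfp : LocallyOfFinitePresentation (i.left ≫ G.hom) := by
    rw [Over.w]
    exact _root_.K6.Basic.locallyOfFinitePresentation_of_isMultTypeFT hH
  have := hfp inferInstance inferInstance (Flat2D.LfpComp.lfp_of_comp i.left G.hom)
  exact ⟨N, i1, n, hnn, hn, smooth_normalizer i hH n hnn, this⟩

end Groth.Agent.SGA3x.K5.MTNorm
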