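import Groth.Agent.Sga3.H832.Asm4145
import Groth.Agent.Sga3.H832.AProp
import Groth.Agent.SGA3x.K5.MTNorm
import Groth.Agent.SGA3x.K18.MTDesc
import Groth.Agent.S2268
import Groth.Agent.S15958

/-!
# Monomorphisms out of groups of unipotent rank zero with finite Weyl groups are closed immersions

Over a valuation ring `R` with algebraically closed fraction field `K`: `T` a torus of the smooth separated quasi-compact
group `G`, self-centralizing on the generic fibre, with finite Weyl group `W = N/C`.  Then every point of `G(K)`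
normalizing `T` is in `G(R) T(K)`.
-/

set_option autoImplicit false
universe u
open CategoryTheory MonoidalCategory CartesianMonoidalCategory MonObj GrpObj AlgebraicGeometry Limits

namespace Groth.Agent.SGA3x.K5.WeylFin

open Groth.Agent.Sga3.H832 TorExt PowRange ClosedCore HensPt SelfCent BcPt Asm4144 ConjLift ClosedLift
open Groth.Agent.Sga3B Groth.Agent.Sga3B.MaxTorBc636 Groth.Agent.Sga3B.DSPts

section lift

variable {R : Type u} [CommRing R] [HenselianLocalRing R] [IsAlgClosed (IsLocalRing.ResidueField R)]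

/-- Points over a henselian local ring with algebraically closed residue field lift along smooth surjective
morphisms. -/
theorem exists_lift_of_smooth {X Y : Scheme.{u}} (q : X ⟶ Y) [Smooth q] [Surjective q]
    (y : Spec (CommRingCat.of R) ⟶ Y) : ∃ x : Spec (CommRingCat.of R) ⟶ X, x ≫ q = y := by
  obtain ⟨x₀, hx₀⟩ := (S2268.result q).mp inferInstance (IsLocalRing.ResidueField R)
    (Spec.map (CommRingCat.ofHom (IsLocalRing.residue R)) ≫ y)
  obtain ⟨a, ha, -⟩ := exists_lift_point (pullback.snd q y)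
    (pullback.lift x₀ (Spec.map (CommRingCat.ofHom (IsLocalRing.residue R))) hx₀) (pullback.lift_snd _ _ _)
  refine ⟨a ≫ pullback.fst q y, ?_⟩
  rw [Category.assoc, pullback.condition, ← Category.assoc, ha, Category.id_comp]

end lift

section val

variable {R K : Type u} [CommRing R] [IsDomain R] [ValuationRing R] [Field K] [Algebra R K] [IsFractionRing R K]

/-- Generic points of proper schemes over a valuation ring extend. -/
theorem exists_extension {W : Over (Spec (CommRingCat.of R))} [IsProper W.hom] (w : gen R K ⟶ W) :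
    ∃ w₀ : 𝟙_ (Over (Spec (CommRingCat.of R))) ⟶ W, toUnit _ ≫ w₀ = w := by
  have h1 : ValuativeCriterion W.hom := by
    have h2 : (@IsProper : MorphismProperty Scheme.{u}) W.hom := inferInstance
    rw [IsProper.eq_valuativeCriterion] at h2
    exact h2.1.1.1
  let sq : ValuativeCommSq W.hom :=
    { R := R, K := K, i₁ := w.left, i₂ := 𝟙 _, commSq := ⟨(Over.w w).trans (Category.comp_id _).symm⟩ }
  obtain ⟨⟨⟨l, hl1, hl2⟩⟩⟩ := h1.existence sq
  refine ⟨Over.homMk l hl2, ?_⟩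
  ext1
  exact hl1

end val

section iso

variable {S : Scheme.{u}} {H G Z Z' : Over S} [GrpObj H] [GrpObj G] [GrpObj Z] [GrpObj Z']

omit [GrpObj H] in
theorem exists_iso_of_isNormalizerOf {i : H ⟶ G} {n : Z ⟶ G} {n' : Z' ⟶ G} (h : Red.IsNormalizerOf i n)
    (h' : Red.IsNormalizerOf i n') : ∃ e : Z ≅ Z', e.hom ≫ n' = n := by
  obtain ⟨-, h1, h2⟩ := h
  obtain ⟨-, h1', h2'⟩ := h'
  obtain ⟨a, ha⟩ := (h2' Z n).mpr ((h2 Z n).mp ⟨𝟙 _, Category.id_comp _⟩)
  obtain ⟨b, hb⟩ := (h2 Z' n').mpr ((h2' Z' n').mp ⟨𝟙 _, Category.id_comp _⟩)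
  exact ⟨⟨a, b, by rw [← cancel_mono n, Category.assoc, hb, ha, Category.id_comp],
    by rw [← cancel_mono n', Category.assoc, ha, hb, Category.id_comp]⟩, ha⟩

omit [GrpObj H] in
theorem exists_iso_of_isCentralizerOf {i : H ⟶ G} {n : Z ⟶ G} {n' : Z' ⟶ G} (h : Red.IsCentralizerOf i n)
    (h' : Red.IsCentralizerOf i n') : ∃ e : Z ≅ Z', e.hom ≫ n' = n := by
  obtain ⟨-, h1, h2⟩ := h
  obtain ⟨-, h1', h2'⟩ := h'
  obtain ⟨a, ha⟩ := (h2' Z n).mpr ((h2 Z n).mp ⟨𝟙 _, Category.id_comp _⟩)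
  obtain ⟨b, hb⟩ := (h2 Z' n').mpr ((h2' Z' n').mp ⟨𝟙 _, Category.id_comp _⟩)
  exact ⟨⟨a, b, by rw [← cancel_mono n, Category.assoc, hb, ha, Category.id_comp],
    by rw [← cancel_mono n', Category.assoc, ha, hb, Category.id_comp]⟩, ha⟩

end iso

/-- Monomorphisms from tori to separated groups of finite type are closed immersions. -/
theorem isClosedImmersion_torus {S : Scheme.{u}} {T G : Over S} [GrpObj T] [GrpObj G] [IsSeparated G.hom]
    [LocallyOfFiniteType G.hom] [QuasiCompact G.hom] (hT : Red.IsTorus T) (i : T ⟶ G) [IsMonHom i] [Mono i] :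
    IsClosedImmersion i.left := by
  have h1 : Smooth T.hom := TorusAlgClosed.smooth_of_isTorus hT
  have h2 : IsAffineHom T.hom := TorusAlgClosed.isAffineHom_of_isTorus hT
  refine Asm4145.isClosedImmersion_of AProp.aProp AProp.tProp S T G (unipotentRankZero_of_isTorus hT)
    (hasMaxTorus_of_isTorus hT) (fun K _ _ x G' _ he T' _ j _ _ _ n _ => ?_) i
  obtain ⟨e⟩ := he
  have h3 : Red.IsTorus G' := TorusBc.isTorus_of_iso e.symm (TorusBc.isTorus_bc x hT)
  rw [MaxTorNear900.mul_comm_of_isTorus h3 _ _ j]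
  group

section weyl

variable {R K : Type u} [CommRing R] [IsDomain R] [ValuationRing R] [Field K] [IsAlgClosed K] [Algebra R K]
  [IsFractionRing R K]

theorem exists_section {G T N C W : Over (Spec (CommRingCat.of R))} [GrpObj G] [GrpObj T] [GrpObj N] [GrpObj C]
    [GrpObj W] [Smooth G.hom] [QuasiCompact G.hom] [IsSeparated G.hom] (i : T ⟶ G) [IsMonHom i] [Mono i]
    (hT : Red.IsTorus T) (hs : SelfC ((Over.pullback (Spec.map (CommRingCat.ofHom (algebraMap R K)))).map i))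
    (n : N ⟶ G) (c : C ⟶ N) (q : N ⟶ W) (hn : Red.IsNormalizerOf i n) (hc : Red.IsCentralizerOf i (c ≫ n))
    [IsMonHom q] [Surjective q.left] [Flat q.left] (hk : AlgGrp.IsKernel c q) [IsFinite W.hom]
    (x : gen R K ⟶ G) (hx : ∀ (X : Over (Spec (CommRingCat.of R))) (y : X ⟶ gen R K) (t : X ⟶ T),
        (∃ t' : X ⟶ T, (y ≫ x) * (t ≫ i) * (y ≫ x)⁻¹ = t' ≫ i) ∧
        (∃ t' : X ⟶ T, (y ≫ x)⁻¹ * (t ≫ i) * (y ≫ x) = t' ≫ i)) :
    ∃ (x₀ : 𝟙_ (Over (Spec (CommRingCat.of R))) ⟶ G) (t : gen R K ⟶ T), x = (toUnit _ ≫ x₀) * (t ≫ i) := by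
  have h1 : HenselianLocalRing R := HensVal.henselianLocalRing R K
  have h2 : IsAlgClosed (IsLocalRing.ResidueField R) := HensVal.isAlgClosed_residueField R K
  have hMT : SGA3x.IsMultTypeFT T := _root_.K18.MTDesc.isMultTypeFT_of_isTorus hT
  have hcl : IsClosedImmersion i.left := isClosedImmersion_torus hT i
  -- smoothness of `N`, `C`, `q`
  have hN : Smooth N.hom := by
    obtain ⟨N', _, n', hn', -, hs', -⟩ := MTNorm.exists_normalizer i hMT
    obtain ⟨e, he⟩ := exists_iso_of_isNormalizerOf hn hn'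
    rw [← Over.w e.hom]
    infer_instance
  have hC : Smooth C.hom := by
    obtain ⟨C', _, c', hc', -, hs', -⟩ := MTTransp.exists_centralizer (u₁ := i) hMT
    obtain ⟨e, he⟩ := exists_iso_of_isCentralizerOf hc hc'
    rw [← Over.w e.hom]
    infer_instance
  have hfp : LocallyOfFinitePresentation q.left := by
    have : LocallyOfFinitePresentation (q.left ≫ W.hom) := by
      rw [Over.w]
      infer_instance
    exact Flat2D.LfpComp.lfp_of_comp q.left W.hom
  have hq : Smooth q.left := S15958.smooth_of_isKernel c q hk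
  have hnm : IsMonHom n := hn.1
  obtain ⟨x', hx'⟩ := (hn.2.2 _ x).mpr hx
  obtain ⟨w₀, hw₀⟩ := exists_extension (x' ≫ q)
  obtain ⟨z, hz⟩ := exists_lift_of_smooth q.left w₀.left
  let z' : 𝟙_ (Over (Spec (CommRingCat.of R))) ⟶ N := Over.homMk z (by
    rw [← Over.w q, ← Category.assoc, hz, Over.w])
  have hz' : z' ≫ q = w₀ := by
    ext1
    exact hz
  -- the difference is in `C`
  have h3 : ((toUnit _ ≫ z')⁻¹ * x') ≫ q = toUnit _ ≫ η[W] := by
    rw [MonObj.mul_comp, GrpObj.inv_comp, Category.assoc, hz', hw₀, inv_mul_cancel, Hom.one_def]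
  obtain ⟨d, hd⟩ : ∃ d : gen R K ⟶ C, d ≫ c = (toUnit _ ≫ z')⁻¹ * x' := ⟨hk.lift _ _ h3, hk.lift_fst _ _ _⟩
  have h4 := (hc.2.2 _ (d ≫ c ≫ n)).mp ⟨d, rfl⟩
  obtain ⟨t, ht⟩ := exists_factor_of_selfC _ i hs (d ≫ c ≫ n) (fun X y t => by
    rw [h4 X y t]
    group)
  refine ⟨z' ≫ n, t, ?_⟩
  rw [ht, ← Category.assoc d, hd, MonObj.mul_comp, GrpObj.inv_comp, hx', Category.assoc]
  group

/-- **Closedness over a valuation ring with algebraically closed fraction field.** -/
theorem closed_lift {G H T : Over (Spec (CommRingCat.of R))} [GrpObj G] [GrpObj H] [GrpObj T]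
    [Smooth G.hom] [QuasiCompact G.hom] [IsSeparated G.hom] [IsSeparated H.hom] [LocallyOfFiniteType H.hom]
    [QuasiCompact H.hom] (u : G ⟶ H) [IsMonHom u] [Mono u] (i : T ⟶ G) [IsMonHom i] [Mono i]
    (hT0 : Red.IsTorus T)
    (hsk : SelfC ((Over.pullback (Spec.map (CommRingCat.ofHom (IsLocalRing.residue R)))).map i))
    (hNL : ∀ n : gen R K ⟶ G, (∀ (X : Over (Spec (CommRingCat.of R))) (x : X ⟶ gen R K) (t : X ⟶ T),
        (∃ t' : X ⟶ T, (x ≫ n) * (t ≫ i) * (x ≫ n)⁻¹ = t' ≫ i) ∧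
        (∃ t' : X ⟶ T, (x ≫ n)⁻¹ * (t ≫ i) * (x ≫ n) = t' ≫ i)) →
      ∃ (n₀ : 𝟙_ (Over (Spec (CommRingCat.of R))) ⟶ G) (t : gen R K ⟶ T), n = (toUnit _ ≫ n₀) * (t ≫ i))
    (h : 𝟙_ (Over (Spec (CommRingCat.of R))) ⟶ H) (gK : gen R K ⟶ G) (hgK : gK ≫ u = toUnit _ ≫ h) :
    ∃ g : 𝟙_ (Over (Spec (CommRingCat.of R))) ⟶ G, g ≫ u = h := by
  have h1 : HenselianLocalRing R := HensVal.henselianLocalRing R K
  have h2 : IsAlgClosed (IsLocalRing.ResidueField R) := HensVal.isAlgClosed_residueField R K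
  obtain ⟨r, hr⟩ := ValExt.exists_isSplitTorusWith hT0
  have h3 : Mono (i ≫ u) := mono_comp i u
  have h4 : Smooth T.hom := TorusAlgClosed.smooth_of_isTorus hT0
  have h5 : IsAffineHom T.hom := TorusAlgClosed.isAffineHom_of_isTorus hT0
  have q1 : QuasiCompact u.left := quasiCompact_left (Or.inl inferInstance) u
  have q2 : LocallyOfFiniteType (u.left ≫ H.hom) := by rw [Over.w]; infer_instance
  have q3 : LocallyOfFiniteType u.left := locallyOfFiniteType_of_comp u.left H.hom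
  have q4 : QuasiCompact (i ≫ u).left := quasiCompact_left (Or.inl inferInstance) (i ≫ u)
  have q5 : LocallyOfFiniteType ((i ≫ u).left ≫ H.hom) := by rw [Over.w]; infer_instance
  have q6 : LocallyOfFiniteType (i ≫ u).left := locallyOfFiniteType_of_comp (i ≫ u).left H.hom
  exact mem_of_generic u i hr (dense_gen T) (isImmersion_torus AProp.aProp AProp.tProp hT0 (i ≫ u))
    (fun φ hφ hψ => AProp.aProp R K G H T r hr u φ hψ)
    (fun t h ht hh => AProp.tProp R K H T r hr (i ≫ u) t h ht hh)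
    (fun j hj hj' => exists_conjBy_of_selfC i hT0 hsk j) hNL h gK hgK

end weyl

/-- **Monomorphisms out of groups of unipotent rank zero with finite Weyl groups are closed immersions.** -/
theorem isClosedImmersion_of {S : Scheme.{u}} {G H : Over S} [GrpObj G] [GrpObj H]
    [Smooth G.hom] [QuasiCompact G.hom] [IsSeparated G.hom] (hu0 : SGA3x.UnipotentRankZero G)
    (hT0 : SGA3x.HasMaxTorusFpqcLocally G) [IsSeparated H.hom] [LocallyOfFiniteType H.hom] [QuasiCompact H.hom]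
    (hW : ∀ (S' : Scheme.{u}) (f : S' ⟶ S) (T : Over S') [GrpObj T] (i : T ⟶ Red.bc f G), Red.IsMaximalTorus i →
      ∃ (N C W : Over S') (_ : GrpObj N) (_ : GrpObj C) (_ : GrpObj W) (n : N ⟶ Red.bc f G) (c : C ⟶ N) (q : N ⟶ W),
        Red.IsNormalizerOf i n ∧ Red.IsCentralizerOf i (c ≫ n) ∧ IsMonHom q ∧ Surjective q.left ∧ Flat q.left ∧
        AlgGrp.IsKernel c q ∧ IsFinite W.hom)
    (u : G ⟶ H) [IsMonHom u] [Mono u] : IsClosedImmersion u.left := by
  have q1 : QuasiCompact u.left := quasiCompact_left (Or.inl inferInstance) u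
  have q2 : LocallyOfFiniteType (u.left ≫ H.hom) := by rw [Over.w]; infer_instance
  have q3 : LocallyOfFiniteType u.left := locallyOfFiniteType_of_comp u.left H.hom
  refine Sga3.H824.ImmVal.isClosedImmersion_of_valuative u.left ?_
  intro R _ _ _ K _ _ _ y a ha
  obtain ⟨S', q, hq1, hq2, -, T', _, i', hi'⟩ := hT0
  let s : Spec (CommRingCat.of R) ⟶ S := y ≫ H.hom
  obtain ⟨R₁, K₁, _, _, _, _, _, _, _, φ, y₁, hφ, hφl, hy₁⟩ := ValExt.exists_valuationRing q s
    (hq2.surj _)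
  -- the point `h` over `R₁`
  let h₀ : Spec (CommRingCat.of R₁) ⟶ H.left := Spec.map (CommRingCat.ofHom φ) ≫ y
  have hh₀ : h₀ ≫ H.hom = (𝟙_ (Over (Spec (CommRingCat.of R₁)))).hom ≫ y₁ ≫ q := by
    change (Spec.map (CommRingCat.ofHom φ) ≫ y) ≫ H.hom = 𝟙 _ ≫ y₁ ≫ q
    rw [Category.id_comp, hy₁, Category.assoc]
  let h : 𝟙_ (Over (Spec (CommRingCat.of R₁))) ⟶ bc2 y₁ q H := pt2 y₁ q H h₀ hh₀
  have hh : h.left ≫ pr y₁ q H = h₀ := pt2_pr y₁ q H _ _
  -- the generic point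
  let φK : K →+* K₁ := IsFractionRing.map (A := R) (B := R₁) (K := K) (L := K₁) (j := φ) hφ
  have hφK : φK.comp (algebraMap R K) = (algebraMap R₁ K₁).comp φ := by
    ext x
    exact IsLocalization.map_eq (nonZeroDivisors_le_comap_nonZeroDivisors_of_injective φ hφ) x
  have eK : Spec.map (CommRingCat.ofHom (algebraMap R₁ K₁)) ≫ Spec.map (CommRingCat.ofHom φ) =
      Spec.map (CommRingCat.ofHom φK) ≫ Spec.map (CommRingCat.ofHom (algebraMap R K)) := by
    rw [← Spec.map_comp, ← Spec.map_comp, ← CommRingCat.ofHom_comp, ← CommRingCat.ofHom_comp, hφK]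
  let aK : (gen R₁ K₁).left ⟶ G.left := Spec.map (CommRingCat.ofHom φK) ≫ a
  have haK : aK ≫ u.left = (toUnit (gen R₁ K₁)).left ≫ h₀ := by
    rw [Over.toUnit_left]
    change (Spec.map (CommRingCat.ofHom φK) ≫ a) ≫ u.left =
      Spec.map (CommRingCat.ofHom (algebraMap R₁ K₁)) ≫ Spec.map (CommRingCat.ofHom φ) ≫ y
    rw [Category.assoc, ha, ← Category.assoc, ← eK, Category.assoc]
  have haK' : aK ≫ G.hom = (gen R₁ K₁).hom ≫ y₁ ≫ q := by
    rw [← Over.w u, ← Category.assoc, haK, Category.assoc, hh₀, ← Category.assoc, Over.w]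
  -- the data over `R₁`
  have i1 : Smooth (bc2 y₁ q G).hom := prop_bc2 y₁ q ‹Smooth G.hom›
  have i2 : IsSeparated (bc2 y₁ q G).hom := prop_bc2 y₁ q ‹IsSeparated G.hom›
  have i3 : QuasiCompact (bc2 y₁ q G).hom := prop_bc2 y₁ q ‹QuasiCompact G.hom›
  have i4 : IsSeparated (bc2 y₁ q H).hom := prop_bc2 y₁ q ‹IsSeparated H.hom›
  have i5 : LocallyOfFiniteType (bc2 y₁ q H).hom := prop_bc2 y₁ q ‹LocallyOfFiniteType H.hom›
  have i6 : QuasiCompact (bc2 y₁ q H).hom := prop_bc2 y₁ q ‹QuasiCompact H.hom›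
  have j1 : IsMonHom i' := hi'.1
  have j2 : Mono i' := hi'.2.1
  let i₁ : Red.bc y₁ T' ⟶ bc2 y₁ q G := (Over.pullback y₁).map i'
  have hs : ∀ (L : Type u) [Field L] [IsAlgClosed L] (e : Spec (CommRingCat.of L) ⟶ Spec (CommRingCat.of R₁)),
      SelfC ((Over.pullback e).map i₁) := by
    intro L _ _ e
    have h1 := selfC_geom q hu0 hi' (e ≫ y₁)
    exact selfC_of_arrow (BcIso.bcCompIso e y₁ T') (BcIso.bcCompIso e y₁ (Red.bc q G))
      (BcNat.comp_nat e y₁ i').symm h1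
  have hk : IsAlgClosed (IsLocalRing.ResidueField R₁) := HensVal.isAlgClosed_residueField R₁ K₁
  have hTb : Red.IsTorus (Red.bc y₁ T') := TorusBc.isTorus_bc y₁ hi'.2.2.1
  -- the Weyl group over `R₁`
  let ε : Grp.mk (Red.bc (y₁ ≫ q) G) ≅ Grp.mk (bc2 y₁ q G) := BcIso.bcCompIso y₁ q G
  let α : bc2 y₁ q G ⟶ Red.bc (y₁ ≫ q) G := ε.inv.hom.hom
  let β : Red.bc (y₁ ≫ q) G ⟶ bc2 y₁ q G := ε.hom.hom.hom
  have hαβ : α ≫ β = 𝟙 _ := congrArg (fun k => k.hom.hom) ε.inv_hom_id
  have hβα : β ≫ α = 𝟙 _ := congrArg (fun k => k.hom.hom) ε.hom_inv_id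
  have hαm : IsMonHom α := ε.inv.hom.isMonHom_hom
  have hβm : IsMonHom β := ε.hom.hom.isMonHom_hom
  have hαmono : Mono α := ⟨fun a b hab => by
    have := congrArg (fun z => z ≫ β) hab
    simpa [hαβ] using this⟩
  let i₂ : Red.bc y₁ T' ⟶ Red.bc (y₁ ≫ q) G := i₁ ≫ α
  have hmax₁ : Red.IsMaximalTorus i₁ :=
    ⟨inferInstance, inferInstance, hTb, fun t => isMaxTorOver_of_selfC (hs _ (Red.geomPt t))⟩
  have hmax₂ : Red.IsMaximalTorus i₂ :=
    AlgBc.isMaximalTorus_of_arrow (Iso.refl _) ε.symm (Category.id_comp _).symm hmax₁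
  obtain ⟨N, C, W, _, _, _, n, c, qW, hN, hC, hqW, hqW', hqW'', hker, hfin⟩ := hW _ (y₁ ≫ q) _ i₂ hmax₂
  have k1 : Smooth (Red.bc (y₁ ≫ q) G).hom := inferInstanceAs (Smooth (pullback.snd _ _))
  have k2 : IsSeparated (Red.bc (y₁ ≫ q) G).hom := inferInstanceAs (IsSeparated (pullback.snd _ _))
  have k3 : QuasiCompact (Red.bc (y₁ ≫ q) G).hom := inferInstanceAs (QuasiCompact (pullback.snd _ _))
  have k4 : SelfC ((Over.pullback (Spec.map (CommRingCat.ofHom (algebraMap R₁ K₁)))).map i₂) :=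
    selfC_of_arrow (Iso.refl _) (BcIso.bcMapIso _ ε.symm) (by
      change _ ≫ (Over.pullback _).map α = 𝟙 _ ≫ _
      rw [Category.id_comp, ← Functor.map_comp]) (hs K₁ _)
  obtain ⟨g, hg⟩ := closed_lift (K := K₁) (bc2Map y₁ q u) i₁ hTb (hs (IsLocalRing.ResidueField R₁) _)
    (fun x hx => by
      obtain ⟨x₀, t, hxt⟩ := exists_section i₂ hTb k4 n c qW hN hC hker (x ≫ α) (fun X y t => by
        obtain ⟨⟨t₁, ht₁⟩, ⟨t₂, ht₂⟩⟩ := hx X y t
        constructor
        · refine ⟨t₁, ?_⟩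
          have := congrArg (fun z => z ≫ α) ht₁
          simpa only [MonObj.mul_comp, GrpObj.inv_comp, Category.assoc, i₂] using this
        · refine ⟨t₂, ?_⟩
          have := congrArg (fun z => z ≫ α) ht₂
          simpa only [MonObj.mul_comp, GrpObj.inv_comp, Category.assoc, i₂] using this)
      refine ⟨x₀ ≫ β, t, ?_⟩
      rw [← cancel_mono α, hxt, MonObj.mul_comp]
      simp only [i₂, Category.assoc, hβα, Category.comp_id]) h
    (pt2 y₁ q G aK haK') (hom_ext2 y₁ q (by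
      rw [Over.comp_left, Category.assoc, map_pr, ← Category.assoc, pt2_pr, haK, Over.comp_left, Category.assoc,
        hh]))
  refine Sga3.H824.ImmVal.exists_lift_of_extension u.left φ hφ y (g.left ≫ pr y₁ q G) ?_
  rw [Category.assoc, ← map_pr, ← Category.assoc, ← Over.comp_left, hg, hh]

end Groth.Agent.SGA3x.K5.WeylFin
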