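import Groth.Agent.SGA3x.K5.BorelPt
import Groth.Agent.SGA3x.K18.CentQuot
import Groth.Agent.Agf.H614.AlgDict
import Groth.Agent.Sga3.H784.NAMain
import Groth.Agent.Sga3.H784.MaxImg
import Groth.Agent.Sga3.H784.Conj

/-!
# Borel subgroups of smooth algebraic groups which need not be affine

Over an algebraically closed field; `G` is smooth and quasi-compact.

* `isMaximalTorus_comp`: a maximal torus of a Borel subgroup is a maximal torus of the group;
* `exists_factor_of_cent`: (connected group) a point centralizing a maximal torus of `B` is in `B`;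
* `isCartanOver_comp`: (connected group) Cartan subgroups of `B` are Cartan subgroups of `G`;
* `exists_factor_of_central`: (connected group) the centre is contained in every Borel subgroup.
-/

set_option autoImplicit false
universe u
open CategoryTheory MonoidalCategory CartesianMonoidalCategory MonObj GrpObj AlgebraicGeometry

namespace Groth.Agent.SGA3x.K5.BorelMain

open Groth.Agent Groth.Agent.Books.AlgPts BorelNA BorelPt
open Groth.Agent.Sga3B.RG Groth.Agent.Sga3B.RG.BrPts Groth.Agent.Sga3B.RG.BrTorus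
open Groth.Agent.Sga3B.RG.BrMax Groth.Agent.Sga3B.Parab.BorelPts172
open Groth.Agent.Books.AffBridge Groth.Agent.Books.AffBridge2

variable {K : Type u} [Field K] [IsAlgClosed K]

section aff

variable {Q B' T : Over (Spec (CommRingCat.of K))} [GrpObj Q] [GrpObj B'] [GrpObj T]

omit [IsAlgClosed K] in
lemma isAbsMax_of_iso {T T' G : Over (Spec (CommRingCat.of K))} [GrpObj T] [GrpObj T'] [GrpObj G]
    {i : T ⟶ G} {i' : T' ⟶ G} (e : T ≅ T') (he : e.hom ≫ i' = i) (h : IsAbsMax i)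
    (hi' : IsMonHom i') (hm : Mono i') (hT' : Red.IsTorus T') : IsAbsMax i' := by
  obtain ⟨h1, h2, h3, h4⟩ := h
  refine ⟨hi', hm, hT', fun T₃ _ j _ _ f hT₃ hf => ?_⟩
  have h5 : IsIso (e.hom ≫ f) := h4 T₃ j (e.hom ≫ f) hT₃ (by rw [Category.assoc, hf, he])
  have h6 : IsIso e.hom := e.isIso_hom
  exact IsIso.of_isIso_comp_left e.hom f

/-- A torus conjugate to a maximal torus is maximal. -/
theorem isMaximalTorus_of_conjBy {G T₁ T₂ : Over (Spec (CommRingCat.of K))} [GrpObj G] [GrpObj T₁] [GrpObj T₂]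
    {i₁ : T₁ ⟶ G} {i₂ : T₂ ⟶ G} (h₁ : Red.IsMaximalTorus i₁) (hi₂ : IsMonHom i₂) (hm₂ : Mono i₂)
    (hT₂ : Red.IsTorus T₂) {g : 𝟙_ (Over (Spec (CommRingCat.of K))) ⟶ G} (h : SGA3x.ConjBy i₁ i₂ g) :
    Red.IsMaximalTorus i₂ := by
  obtain ⟨φ, hφ⟩ := h
  have h3 := Sga3.H784.Conj.isMaximalTorus_conj i₁ h₁ g
  rw [Sga3.H784.Conj.comp_conjIso_hom, hφ, isMaximalTorus_iff_abs] at h3
  rw [isMaximalTorus_iff_abs]
  exact isAbsMax_of_iso φ rfl h3 hi₂ hm₂ hT₂

/-- A maximal torus of a Borel subgroup is a maximal torus (affine case). -/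
theorem isMaximalTorus_comp_affine [IsAffine Q.left] [Smooth Q.hom] [ConnectedSpace Q.left] (b' : B' ⟶ Q)
    (hB' : Red.IsBorelOver K b') (t : T ⟶ B') (ht : Red.IsMaximalTorus t) : Red.IsMaximalTorus (t ≫ b') := by
  have hjm : IsMonHom b' := hB'.1
  have hjc : IsClosedImmersion b'.left := hB'.2.1
  have hbs : Smooth B'.hom := hB'.2.2.1
  have hbm : Mono b' := mono_of_isClosedImmersion b'
  obtain ⟨A, _, _, e, he, hft, hdom⟩ := Agf.H595.BorTorusSch.exists_hopf_domain Q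
  have hN := Agf.H595.BorTorusSch.isBorelPt_ptsSub b' e hB'
  obtain ⟨T0, hT0, hT0N⟩ := hN.exists_isMaxTorusSub_le
  obtain ⟨T₀, _, i, hi, hT, hicl, rfl⟩ := exists_of_isTorusSub hT0.1
  have hjec : IsClosedImmersion (b' ≫ e.hom).left :=
    Agf.H595.BorTorusSch.isClosedImmersion_comp_iso b' e hjc
  have hTs := Groth.Agent.Sga3B.TorusAlgClosed.smooth_of_isTorus hT
  obtain ⟨t₀, ht₀⟩ := exists_factor_of_le i (b' ≫ e.hom) hT0N
  have hjem : Mono (b' ≫ e.hom) := Groth.Agent.Books.AlgPtsGrp.mono_of_isClosedImmersion _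
  have htm : IsMonHom t₀ := by
    have : IsMonHom (t₀ ≫ b' ≫ e.hom) := by rw [ht₀]; exact hi
    exact isMonHom_of_comp_mono t₀ (b' ≫ e.hom) this
  have hmi : Mono (t₀ ≫ b') := by
    have h1 : Mono ((t₀ ≫ b') ≫ e.hom) := by
      rw [Category.assoc, ht₀]
      exact Groth.Agent.Books.AlgPtsGrp.mono_of_isClosedImmersion _
    exact mono_of_mono (t₀ ≫ b') e.hom
  have h1 : Red.IsMaximalTorus (t₀ ≫ b') := by
    refine isMaximalTorus_of_isMaxTorusSub (t₀ ≫ b') hT e ?_
    simp only [Category.assoc, ht₀]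
    exact hT0
  have h2 : Red.IsMaximalTorus t₀ := by
    rw [isMaximalTorus_iff_abs] at h1 ⊢
    exact _root_.K492.Basic.isMaxTorus_lift (i := t₀ ≫ b') h1 b' t₀ rfl
  obtain ⟨g, φ, hφ⟩ := Sga3.H784.NAMain.exists_conjBy t₀ t h2 ht
  have hti := ht.1
  have htm' := ht.2.1
  refine isMaximalTorus_of_conjBy (g := g ≫ b') h1 inferInstance (mono_comp _ _) ht.2.2.1 ⟨φ, ?_⟩
  rw [← Category.assoc φ.hom, ← hφ, MonObj.mul_comp, MonObj.mul_comp, GrpObj.inv_comp, Category.assoc]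

/-- A point centralizing a maximal torus of a Borel subgroup is in the Borel subgroup (affine case). -/
theorem exists_factor_of_cent_affine [IsAffine Q.left] [Smooth Q.hom] [ConnectedSpace Q.left] (b' : B' ⟶ Q)
    (hB' : Red.IsBorelOver K b') (t : T ⟶ B') (ht : Red.IsMaximalTorus (t ≫ b'))
    {X : Over (Spec (CommRingCat.of K))} (g : X ⟶ Q) (hg : _root_.K18.CentQuot.Cent (t ≫ b') g) :
    ∃ y : X ⟶ B', y ≫ b' = g := by
  have h1 := ht.1
  obtain ⟨n, e, he⟩ := BrTorus.isTorus_iff.1 ht.2.2.1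
  obtain ⟨C, _, c, hc, hccl, -⟩ := BrCent.exists_isCentralizerOf e (t ≫ b')
  obtain ⟨f, hf⟩ := Agf.H614.AlgDict.exists_factor_centralizer (t ≫ b') ((isMaximalTorus_iff_abs _).1 ht) c hc
    b' hB' t rfl
  obtain ⟨z, hz⟩ := (hc.2.2 X g).2 fun X' x h => hg X' x h
  exact ⟨z ≫ f, by rw [Category.assoc, hf, hz]⟩

end aff

section conn

variable {G B T : Over (Spec (CommRingCat.of K))} [GrpObj G] [GrpObj B] [GrpObj T] [Smooth G.hom]
  [QuasiCompact G.hom] [ConnectedSpace G.left]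

/-- The data used below: the affine hull and the image of the Borel subgroup and of a torus. -/
theorem exists_image_data (b : B ⟶ G) (hB : Red.IsBorelOver K b) (t : T ⟶ B) (ht : Red.IsMaximalTorus t) :
    ∃ (Q : Over (Spec (CommRingCat.of K))) (_ : GrpObj Q) (ρ : G ⟶ Q) (B' T' : Over (Spec (CommRingCat.of K)))
      (_ : GrpObj B') (_ : GrpObj T') (b' : B' ⟶ Q) (v : B ⟶ B') (p : T ⟶ T') (j : T' ⟶ B'),
      IsMonHom ρ ∧ IsAffine Q.left ∧ Smooth Q.hom ∧ ConnectedSpace Q.left ∧ Flat ρ.left ∧ Surjective ρ.left ∧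
      CentKer ρ ∧ Red.IsBorelOver K b' ∧ IsMonHom v ∧ Flat v.left ∧ Surjective v.left ∧ IsPullback b v ρ b' ∧
      IsMonHom p ∧ Flat p.left ∧ Surjective p.left ∧ p ≫ j = t ≫ v ∧ Red.IsMaximalTorus j ∧
      Red.IsMaximalTorus (j ≫ b') := by
  obtain ⟨Q, _, ρ, hρ, haff, hQs, hQc, hfl, hsurj, hk, hkc, hcent⟩ := exists_hull G
  obtain ⟨B', _, b', v, hB', hv, hvf, hvs, hpb⟩ := exists_borel_image ρ hcent hk hkc b hB
  have hb1 : IsMonHom b := hB.1
  have hb2 : IsClosedImmersion b.left := hB.2.1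
  have hb3 : Smooth B.hom := hB.2.2.1
  have hb4 : QuasiCompact B.hom := by rw [← Over.w b]; infer_instance
  have hb5 := Books.AntiAffine.isSeparated_hom B
  have hb'3 : Smooth B'.hom := hB'.2.2.1
  have ht1 := ht.1
  obtain ⟨T', _, p, j, hT', hp, hj, hjm, hps, hpf, hpj⟩ :=
    Sga3.H784.NAMain.exists_image_torus (t ≫ v) ht.2.2.1
  have hj' : Red.IsMaximalTorus j := Sga3.H784.MaxImg.isMaximalTorus_image v t ht p j hT' hpj
  exact ⟨Q, inferInstance, ρ, B', T', inferInstance, inferInstance, b', v, p, j, hρ, haff, hQs, hQc, hfl, hsurj,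
    hcent, hB', hv, hvf, hvs, hpb, hp, hpf, hps, hpj, hj', isMaximalTorus_comp_affine b' hB' j hj'⟩

/-- A maximal torus of a Borel subgroup is a maximal torus (connected case). -/
theorem isMaximalTorus_comp_conn (b : B ⟶ G) (hB : Red.IsBorelOver K b) (t : T ⟶ B)
    (ht : Red.IsMaximalTorus t) : Red.IsMaximalTorus (t ≫ b) := by
  obtain ⟨Q, _, ρ, B', T', _, _, b', v, p, j, hρ, haff, hQs, hQc, hfl, hsurj, hcent, hB', hv, hvf, hvs, hpb, hp, hpf,
    hps, hpj, hj', hjb⟩ := exists_image_data b hB t ht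
  have hb1 : IsMonHom b := hB.1
  have hb2 : IsClosedImmersion b.left := hB.2.1
  have hb3 : Smooth B.hom := hB.2.2.1
  have hbm : Mono b := mono_of_isClosedImmersion b
  have hb'1 : IsMonHom b' := hB'.1
  have ht1 := ht.1
  have ht2 := ht.2.1
  have hj1 := hj'.1
  have hcv : CentKer v := centKer_of_mono ρ hcent b v b' hpb.w
  refine Sga3.H784.Exist.isMaximalTorus_of_over ρ (j ≫ b') hjb (t ≫ b) ht.2.2.1
    (fun R _ r _ _ hR hf => ?_)
  obtain ⟨f, hf⟩ := hf
  let r' : R ⟶ B := hpb.lift r (f ≫ j) (by rw [Category.assoc, hf])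
  have hr1 : r' ≫ b = r := hpb.lift_fst _ _ _
  have hr2 : r' ≫ v = f ≫ j := hpb.lift_snd _ _ _
  have hr' : IsMonHom r' := isMonHom_of_comp_mono r' b (by rw [hr1]; infer_instance)
  obtain ⟨f', hf'⟩ := Sga3.H784.NAMain.exists_factor_of_commute t ht r' hR (fun t₁ r₁ => by
    refine Sga3.H784.NAMain.commute_of_central v (fun z g hz => hcv _ z g hz) t r' ht.2.2.1 hR (fun t₂ r₂ => ?_)
      t₁ r₁
    rw [hr2, ← hpj, ← Category.assoc t₂, ← Category.assoc r₂, ← MonObj.mul_comp, ← MonObj.mul_comp,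
      Sga3.H784.MaxImg.mul_comm_pts hj'.2.2.1])
  exact ⟨f', by rw [← Category.assoc, hf', hr1]⟩

/-- A point centralizing a maximal torus of a Borel subgroup is in the Borel subgroup. -/
theorem exists_factor_of_cent (b : B ⟶ G) (hB : Red.IsBorelOver K b) (t : T ⟶ B)
    (ht : Red.IsMaximalTorus t) {X : Over (Spec (CommRingCat.of K))} (g : X ⟶ G)
    (hg : _root_.K18.CentQuot.Cent (t ≫ b) g) : ∃ y : X ⟶ B, y ≫ b = g := by
  obtain ⟨Q, _, ρ, B', T', _, _, b', v, p, j, hρ, haff, hQs, hQc, hfl, hsurj, hcent, hB', hv, hvf, hvs, hpb, hp, hpf,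
    hps, hpj, hj', hjb⟩ := exists_image_data b hB t ht
  obtain ⟨y, hy⟩ := exists_factor_of_cent_affine b' hB' j hjb (g ≫ ρ)
    (hg.map ρ (t ≫ b) (j ≫ b') p (by rw [← Category.assoc, hpj, Category.assoc, Category.assoc, hpb.w]))
  exact ⟨hpb.lift g y hy.symm, hpb.lift_fst _ _ _⟩

/-- The centre is contained in every Borel subgroup. -/
theorem exists_factor_of_central (b : B ⟶ G) (hB : Red.IsBorelOver K b) {X : Over (Spec (CommRingCat.of K))}
    (g : X ⟶ G) (hg : _root_.K18.CentQuot.Cent (𝟙 G) g) : ∃ y : X ⟶ B, y ≫ b = g := by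
  have hb1 : IsMonHom b := hB.1
  have hb3 : Smooth B.hom := hB.2.2.1
  obtain ⟨T, _, t, ht⟩ := Sga3.H784.NAMain.exists_isMaximalTorus B
  refine exists_factor_of_cent b hB t ht g fun X' x h => ?_
  have := hg X' x (h ≫ t ≫ b)
  rwa [Category.comp_id] at this

/-- Cartan subgroups of a Borel subgroup are Cartan subgroups. -/
theorem isCartanOver_comp {C : Over (Spec (CommRingCat.of K))} [GrpObj C] (b : B ⟶ G)
    (hB : Red.IsBorelOver K b) (c : C ⟶ B) (hc : SGA3x.IsCartanOver K c) : SGA3x.IsCartanOver K (c ≫ b) := by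
  obtain ⟨h1, h2, T, _, i, hi, h3⟩ := hc
  have hb1 : IsMonHom b := hB.1
  have hb2 : IsClosedImmersion b.left := hB.2.1
  have hbm : Mono b := mono_of_isClosedImmersion b
  refine ⟨inferInstance, mono_comp _ _, T, inferInstance, i ≫ b, isMaximalTorus_comp_conn b hB i hi,
    inferInstance, mono_comp _ _, fun X g => ⟨?_, fun hg => ?_⟩⟩
  · rintro ⟨z, rfl⟩ X' x h
    have h4 := (h3.2.2 X (z ≫ c)).1 ⟨z, rfl⟩ X' x h
    have h5 := congrArg (· ≫ b) h4
    simpa only [MonObj.mul_comp, Category.assoc] using h5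
  · obtain ⟨y, rfl⟩ := exists_factor_of_cent b hB i hi g hg
    obtain ⟨z, hz⟩ := (h3.2.2 X y).2 fun X' x h => by
      rw [← cancel_mono b, MonObj.mul_comp, MonObj.mul_comp]
      simpa only [Category.assoc] using hg X' x h
    exact ⟨z, by rw [← Category.assoc, hz]⟩

end conn

/-- **A maximal torus of a Borel subgroup is a maximal torus.** -/
theorem isMaximalTorus_comp {G B T : Over (Spec (CommRingCat.of K))} [GrpObj G] [GrpObj B] [GrpObj T]
    [Smooth G.hom] (b : B ⟶ G) (hB : Red.IsBorelOver K b) (t : T ⟶ B) (ht : Red.IsMaximalTorus t) :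
    Red.IsMaximalTorus (t ≫ b) := by
  obtain ⟨U, _, u, k1, k2, k3, k4, k5, k6, k7⟩ := exists_neutral_lift (G := G)
  obtain ⟨f, hf, rfl⟩ := k7 B b hB
  rw [← Category.assoc, Sga3.H784.Neutral.isMaximalTorus_comp_iff u k6]
  exact isMaximalTorus_comp_conn f hf t ht

end Groth.Agent.SGA3x.K5.BorelMain
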