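import Groth.Agent.SGA3x.K5.BorelNA
import Groth.Agent.Agf.H588.BorelNormSch
import Groth.Agent.RedSub.H645.BorelConj
import Groth.Agent.AGF.K492.Basic
import Groth.Agent.S3910
import Groth.Agent.Sga3A.NormParab
import Groth.Agent.Sga3.H784.Neutral
import Groth.Prelude.Def_SGA3x

/-!
# Borel subgroups of smooth algebraic groups which need not be affine: conjugacy and normalizers

Over an algebraically closed field; `G` is smooth and quasi-compact.

* `isNormalizerOf_self`: (connected group) a Borel subgroup is its own normalizer;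
* `exists_borel_of_point`: (connected group) every rational point lies in a Borel subgroup;
* `exists_conjBy`: Borel subgroups are conjugate;
* `isBorelOver_comp_neutral_iff`: Borel subgroups of the group and of its neutral component.
-/

set_option autoImplicit false
universe u
open CategoryTheory MonoidalCategory CartesianMonoidalCategory MonObj GrpObj AlgebraicGeometry

namespace Groth.Agent.SGA3x.K5.BorelPt

open Groth.Agent Groth.Agent.Books.AlgPts BorelNA

variable {K : Type u} [Field K] [IsAlgClosed K]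

section norm

omit [IsAlgClosed K] in
/-- flat, surjective, finitely presented lifting of points -/
lemma exists_cover_fp {S : Scheme.{u}} {T T' : Over S} (v : T ⟶ T') [Flat v.left] [Surjective v.left]
    [LocallyOfFinitePresentation v.left] {X : Over S} (t' : X ⟶ T') :
    ∃ (X' : Over S) (c : X' ⟶ X) (t : X' ⟶ T), Flat c.left ∧ Surjective c.left ∧
      LocallyOfFinitePresentation c.left ∧ t ≫ v = c ≫ t' := by
  let X' : Over S := Over.mk (Limits.pullback.fst t'.left v.left ≫ X.hom)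
  let c : X' ⟶ X := Over.homMk (Limits.pullback.fst t'.left v.left)
  refine ⟨X', c, Over.homMk (Limits.pullback.snd t'.left v.left) ?_,
    inferInstanceAs (Flat (Limits.pullback.fst t'.left v.left)),
    inferInstanceAs (Surjective (Limits.pullback.fst t'.left v.left)),
    inferInstanceAs (LocallyOfFinitePresentation (Limits.pullback.fst t'.left v.left)), ?_⟩
  · change Limits.pullback.snd t'.left v.left ≫ T.hom = Limits.pullback.fst t'.left v.left ≫ X.hom
    rw [← Over.w v, ← Over.w t', ← Category.assoc, ← Limits.pullback.condition, Category.assoc]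
  · ext1
    exact Limits.pullback.condition.symm

omit [IsAlgClosed K] in
lemma lfp_of_field {X Y : Over (Spec (CommRingCat.of K))} (f : X ⟶ Y) [LocallyOfFiniteType X.hom]
    [LocallyOfFiniteType Y.hom] : LocallyOfFinitePresentation f.left := by
  have h1 : LocallyOfFiniteType f.left := by
    have : LocallyOfFiniteType (f.left ≫ Y.hom) := by rw [Over.w]; infer_instance
    exact locallyOfFiniteType_of_comp f.left Y.hom
  have h2 : IsLocallyNoetherian Y.left := LocallyOfFiniteType.isLocallyNoetherian Y.hom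
  infer_instance

/-- Descent of normalizing points along a cartesian square of subgroups. -/
theorem exists_factor_of_norm {S : Scheme.{u}} {G Q B B' : Over S} [GrpObj G] [GrpObj Q] [GrpObj B] [GrpObj B']
    (ρ : G ⟶ Q) [IsMonHom ρ] (b : B ⟶ G) (b' : B' ⟶ Q) [Mono b'] (v : B ⟶ B') [Flat v.left] [Surjective v.left]
    [LocallyOfFinitePresentation v.left] (h : b ≫ ρ = v ≫ b') {X : Over S} (g : X ⟶ G)
    (hg : ∀ (X' : Over S) (x : X' ⟶ X) (z : X' ⟶ B), ∃ z' : X' ⟶ B, (x ≫ g) * (z ≫ b) * (x ≫ g)⁻¹ = z' ≫ b)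
    (X' : Over S) (x : X' ⟶ X) (z : X' ⟶ B') :
    ∃ z' : X' ⟶ B', (x ≫ g ≫ ρ) * (z ≫ b') * (x ≫ g ≫ ρ)⁻¹ = z' ≫ b' := by
  obtain ⟨X'', c, t, h1, h2, h3, ht⟩ := exists_cover_fp v z
  obtain ⟨z', hz'⟩ := hg X'' (c ≫ x) t
  obtain ⟨y, hy⟩ := Sga3B.Parab.ConjLocal.factors_of_flat b' c ((x ≫ g ≫ ρ) * (z ≫ b') * (x ≫ g ≫ ρ)⁻¹)
    ⟨z' ≫ v, by
      have h4 := congrArg (· ≫ ρ) hz'
      simp only [MonObj.mul_comp, GrpObj.inv_comp, Category.assoc, h] at h4
      rw [Category.assoc, ← h4, MonObj.comp_mul, MonObj.comp_mul, GrpObj.comp_inv, ← Category.assoc c z,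
        ← ht, Category.assoc]⟩
  exact ⟨y, hy.symm⟩

variable {G B : Over (Spec (CommRingCat.of K))} [GrpObj G] [GrpObj B] [Smooth G.hom]
  [QuasiCompact G.hom] [ConnectedSpace G.left]

/-- A Borel subgroup of a smooth connected group is its own normalizer. -/
theorem isNormalizerOf_self (b : B ⟶ G) (hB : Red.IsBorelOver K b) : Red.IsNormalizerOf b b := by
  obtain ⟨Q, _, ρ, hρ, haff, hQs, hQc, hfl, hsurj, hk, hkc, hcent⟩ := exists_hull G
  obtain ⟨B', _, b', v, hB', hv, hvf, hvs, hpb⟩ := exists_borel_image ρ hcent hk hkc b hB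
  have hb1 : IsMonHom b := hB.1
  have hb2 : IsClosedImmersion b.left := hB.2.1
  have hbm : Mono b := mono_of_isClosedImmersion b
  have hb3 : Smooth B.hom := hB.2.2.1
  have hb'3 : Smooth B'.hom := hB'.2.2.1
  have hb'1 : IsMonHom b' := hB'.1
  have hb'2 : IsClosedImmersion b'.left := hB'.2.1
  have hb'm : Mono b' := mono_of_isClosedImmersion b'
  have hvfp : LocallyOfFinitePresentation v.left := lfp_of_field v
  have hN : Red.IsNormalizerOf b' b' := by
    have hQa : IsAffineHom Q.hom := inferInstance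
    refine Agf.H588.BorelNormSch.isNormalizerOf_of_isBorel (fun s => ?_) b'
      (Sga3A.NormParab.isBorel_of_over hB')
    have h1 : Q.hom.base ⁻¹' {s} = Set.univ := by
      ext x
      simp only [Set.mem_preimage, Set.mem_singleton_iff, Set.mem_univ, iff_true]
      have hsub : Subsingleton (Spec (CommRingCat.of K)) :=
        inferInstanceAs (Subsingleton (PrimeSpectrum K))
      exact Subsingleton.elim _ _
    rw [h1]
    exact isConnected_univ
  refine ⟨inferInstance, inferInstance, fun X g => ⟨?_, fun hg => ?_⟩⟩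
  · rintro ⟨z, rfl⟩ X' x h
    exact ⟨⟨(x ≫ z) * h * (x ≫ z)⁻¹, by rw [MonObj.mul_comp, MonObj.mul_comp, GrpObj.inv_comp, Category.assoc]⟩,
      ⟨(x ≫ z)⁻¹ * h * (x ≫ z), by rw [MonObj.mul_comp, MonObj.mul_comp, GrpObj.inv_comp, Category.assoc]⟩⟩
  · obtain ⟨y, hy⟩ := (hN.2.2 X (g ≫ ρ)).2 fun X' x z => by
      refine ⟨exists_factor_of_norm ρ b b' v hpb.w g (fun X' x z => (hg X' x z).1) X' x z, ?_⟩
      obtain ⟨z', hz'⟩ := exists_factor_of_norm ρ b b' v hpb.w g⁻¹ (fun X' x z => by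
        obtain ⟨z'', hz''⟩ := (hg X' x z).2
        exact ⟨z'', by rw [GrpObj.comp_inv, _root_.inv_inv]; exact hz''⟩) X' x z
      refine ⟨z', ?_⟩
      rw [← hz', GrpObj.inv_comp, GrpObj.comp_inv, _root_.inv_inv]
    exact ⟨hpb.lift g y hy.symm, hpb.lift_fst _ _ _⟩

/-- Every rational point of a smooth connected group lies in a Borel subgroup. -/
theorem exists_borel_of_point (g : 𝟙_ (Over (Spec (CommRingCat.of K))) ⟶ G) :
    ∃ (B : Over (Spec (CommRingCat.of K))) (_ : GrpObj B) (b : B ⟶ G), Red.IsBorelOver K b ∧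
      ∃ g' : 𝟙_ (Over (Spec (CommRingCat.of K))) ⟶ B, g' ≫ b = g := by
  obtain ⟨Q, _, ρ, hρ, haff, hQs, hQc, hfl, hsurj, hk, hkc, hcent⟩ := exists_hull G
  obtain ⟨B₀, _, b₀, hB₀⟩ := _root_.K492.Basic.exists_isBorelOver Q
  obtain ⟨x, y, hxy⟩ := S3910.result K Q B₀ b₀ hB₀ (g ≫ ρ)
  have hB₁ := _root_.K492.Basic.isBorelOver_conjBy hB₀ x
  have hm : IsMonHom (AGF.conjBy x b₀) := hB₁.1
  have hc : IsClosedImmersion (AGF.conjBy x b₀).left := hB₁.2.1
  have hs : Smooth B₀.hom := hB₁.2.2.1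
  have hcn : ConnectedSpace B₀.left := hB₁.2.2.2.1
  have hmono : Mono (AGF.conjBy x b₀) := mono_of_isClosedImmersion _
  obtain ⟨_, hπ, hw⟩ := AlgGrp.K411.PreimGrp.exists_grpObj ρ (AGF.conjBy x b₀)
  have h := AlgGrp.K411.PreimGrp.isPullback ρ (AGF.conjBy x b₀)
  obtain ⟨h1, h2, h3⟩ := smooth_connected_preimage ρ hk hkc (AGF.conjBy x b₀)
    (AlgGrp.K411.PreimGrp.preι ρ (AGF.conjBy x b₀)) (AlgGrp.K411.PreimGrp.preπ ρ (AGF.conjBy x b₀)) h
  refine ⟨_, inferInstance, AlgGrp.K411.PreimGrp.preι ρ (AGF.conjBy x b₀),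
    isBorelOver_of_isPullback ρ hcent _ hB₁ _ _ h h2 h3, h.lift g y ?_, h.lift_fst _ _ _⟩
  rw [← hxy, MonObj.comp_mul, MonObj.comp_mul, GrpObj.comp_inv, ← Category.assoc, comp_toUnit]
  have h8 : toUnit (𝟙_ (Over (Spec (CommRingCat.of K)))) ≫ x = x := by
    rw [show toUnit (𝟙_ (Over (Spec (CommRingCat.of K)))) = 𝟙 _ from toUnit_unique _ _, Category.id_comp]
  rw [h8]

/-- Borel subgroups are conjugate (connected case). -/
theorem exists_conjBy_conn {B₁ B₂ : Over (Spec (CommRingCat.of K))} [GrpObj B₁] [GrpObj B₂] (b₁ : B₁ ⟶ G)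
    (b₂ : B₂ ⟶ G) (h₁ : Red.IsBorelOver K b₁) (h₂ : Red.IsBorelOver K b₂) :
    ∃ g : 𝟙_ (Over (Spec (CommRingCat.of K))) ⟶ G, SGA3x.ConjBy b₁ b₂ g := by
  obtain ⟨Q, _, ρ, hρ, haff, hQs, hQc, hfl, hsurj, hk, hkc, hcent⟩ := exists_hull G
  obtain ⟨B₁', _, b₁', v₁, hB₁', hv₁, hv₁f, hv₁s, hpb₁⟩ := exists_borel_image ρ hcent hk hkc b₁ h₁
  obtain ⟨B₂', _, b₂', v₂, hB₂', hv₂, hv₂f, hv₂s, hpb₂⟩ := exists_borel_image ρ hcent hk hkc b₂ h₂
  have m1 : Mono b₁ := by have := h₁.2.1; exact mono_of_isClosedImmersion b₁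
  have m2 : Mono b₂ := by have := h₂.2.1; exact mono_of_isClosedImmersion b₂
  obtain ⟨g', hg'⟩ := RedSub.H645.BorelConj.exists_conj hB₁' hB₂'
  obtain ⟨g, hg⟩ := exists_point_of_surjective ρ g'
  have key1 : ∀ (X : Over (Spec (CommRingCat.of K))) (z : X ⟶ B₁), ∃ z' : X ⟶ B₂,
      z' ≫ b₂ = (toUnit X ≫ g) * (z ≫ b₁) * (toUnit X ≫ g)⁻¹ := by
    intro X z
    obtain ⟨y, hy⟩ := (hg' X (toUnit X) (z ≫ v₁ ≫ b₁')).1 ⟨z ≫ v₁, by rw [Category.assoc]⟩
    refine ⟨hpb₂.lift _ y ?_, hpb₂.lift_fst _ _ _⟩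
    rw [hy, MonObj.mul_comp, MonObj.mul_comp, GrpObj.inv_comp, Category.assoc, hg, Category.assoc, hpb₁.w]
  have key2 : ∀ (X : Over (Spec (CommRingCat.of K))) (z : X ⟶ B₂), ∃ z' : X ⟶ B₁,
      z' ≫ b₁ = (toUnit X ≫ g)⁻¹ * (z ≫ b₂) * (toUnit X ≫ g) := by
    intro X z
    obtain ⟨y, hy⟩ := (hg' X (toUnit X) ((toUnit X ≫ g')⁻¹ * (z ≫ v₂ ≫ b₂') * (toUnit X ≫ g'))).2
      ⟨z ≫ v₂, by rw [Category.assoc]; group⟩
    refine ⟨hpb₁.lift _ y ?_, hpb₁.lift_fst _ _ _⟩
    rw [hy, MonObj.mul_comp, MonObj.mul_comp, GrpObj.inv_comp, Category.assoc, hg, Category.assoc, hpb₂.w]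
  obtain ⟨φ, hφ⟩ := key1 B₁ (𝟙 B₁)
  obtain ⟨ψ, hψ⟩ := key2 B₂ (𝟙 B₂)
  rw [Category.id_comp] at hφ hψ
  refine ⟨g, ⟨⟨φ, ψ, ?_, ?_⟩, hφ.symm⟩⟩
  · rw [← cancel_mono b₁, Category.assoc, hψ, MonObj.comp_mul, MonObj.comp_mul, GrpObj.comp_inv, hφ,
      ← Category.assoc, comp_toUnit, Category.id_comp]
    group
  · rw [← cancel_mono b₂, Category.assoc, hφ, MonObj.comp_mul, MonObj.comp_mul, GrpObj.comp_inv, hψ,
      ← Category.assoc, comp_toUnit, Category.id_comp]
    group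

end norm

section neutral

variable {G U B : Over (Spec (CommRingCat.of K))} [GrpObj G] [GrpObj U] [GrpObj B]

omit [IsAlgClosed K] in
/-- Smooth connected groups factor through the neutral component. -/
theorem exists_lift_neutral (u : U ⟶ G) [IsMonHom u] [IsClosedImmersion u.left]
    (hu : Set.range u.left = connectedComponent (pt η[G])) (i : B ⟶ G) [IsMonHom i] [Smooth B.hom]
    (hconn : ConnectedSpace B.left) : ∃ f : B ⟶ U, IsMonHom f ∧ f ≫ u = i := by
  have hred : IsReduced B.left := Books.AlgPtsSmooth.isReduced_of_smooth B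
  have hrange : Set.range i.left ⊆ Set.range u.left := by
    rw [hu]
    have h1 : _root_.IsPreconnected (Set.range i.left) := isPreconnected_range i.left.continuous
    refine h1.subset_connectedComponent ?_
    have h2 : η[B] ≫ i = η[G] := IsMonHom.one_hom i
    rw [← h2, pt_comp]
    exact ⟨_, rfl⟩
  obtain ⟨f, hf⟩ := Books.AlgPtsGrp.exists_lift u i hrange
  have hm : Mono u := mono_of_isClosedImmersion u
  subst hf
  exact ⟨f, Sga3C.SubGrp.isMonHom_of_comp_mono f u, rfl⟩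

omit [IsAlgClosed K] in
/-- Borel subgroups of the group and of its neutral component. -/
theorem isBorelOver_comp_neutral_iff (u : U ⟶ G) [IsMonHom u] [IsClosedImmersion u.left]
    (hu : Set.range u.left = connectedComponent (pt η[G])) (f : B ⟶ U) :
    Red.IsBorelOver K (f ≫ u) ↔ Red.IsBorelOver K f := by
  have hm : Mono u := mono_of_isClosedImmersion u
  constructor
  · rintro ⟨h1, h2, h3, h4, h5, h6⟩
    have h7 : IsClosedImmersion (f.left ≫ u.left) := by rw [← Over.comp_left]; exact h2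
    refine ⟨isMonHom_of_comp_mono f u h1, IsClosedImmersion.of_comp f.left u.left, h3, h4, h5, ?_⟩
    intro B₂ _ i₂ _ f₂ k1 k2 k3 k4 k5
    refine h6 B₂ (i₂ ≫ u) f₂ ?_ k2 k3 k4 (by rw [← Category.assoc, k5])
    rw [Over.comp_left]
    infer_instance
  · rintro ⟨h1, h2, h3, h4, h5, h6⟩
    refine ⟨inferInstance, ?_, h3, h4, h5, ?_⟩
    · rw [Over.comp_left]
      infer_instance
    intro B₂ _ i₂ _ f₂ k1 k2 k3 k4 k5
    obtain ⟨i₂', m, rfl⟩ := exists_lift_neutral u hu i₂ k3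
    have h7 : IsClosedImmersion (i₂'.left ≫ u.left) := by rw [← Over.comp_left]; exact k1
    refine h6 B₂ i₂' f₂ (IsClosedImmersion.of_comp i₂'.left u.left) k2 k3 k4 ?_
    rw [← cancel_mono u, Category.assoc, k5]

/-- The neutral component and the lift of a Borel subgroup. -/
theorem exists_neutral_lift [LocallyOfFiniteType G.hom] :
    ∃ (U : Over (Spec (CommRingCat.of K))) (_ : GrpObj U) (u : U ⟶ G), IsMonHom u ∧ IsClosedImmersion u.left ∧
      Smooth U.hom ∧ ConnectedSpace U.left ∧ QuasiCompact U.hom ∧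
      Set.range u.left = connectedComponent (pt η[G]) ∧
      ∀ (B : Over (Spec (CommRingCat.of K))) [GrpObj B] (b : B ⟶ G), Red.IsBorelOver K b →
        ∃ f : B ⟶ U, Red.IsBorelOver K f ∧ f ≫ u = b := by
  obtain ⟨U, _, u, h1, h2, h3, h4, h5, h6⟩ := Sga3.H784.Neutral.exists_neutral G
  refine ⟨U, inferInstance, u, h1, h2, h3, h4, h5, h6, fun B _ b hB => ?_⟩
  have := hB.1
  have := hB.2.2.1
  obtain ⟨f, hf, rfl⟩ := exists_lift_neutral u h6 b hB.2.2.2.1
  exact ⟨f, (isBorelOver_comp_neutral_iff u h6 f).1 hB, rfl⟩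

omit [IsAlgClosed K] in
lemma conjBy_comp {S : Scheme.{u}} {G U H₁ H₂ : Over S} [GrpObj G] [GrpObj U] (u : U ⟶ G) [IsMonHom u]
    {i₁ : H₁ ⟶ U} {i₂ : H₂ ⟶ U} {g : 𝟙_ (Over S) ⟶ U} (h : SGA3x.ConjBy i₁ i₂ g) :
    SGA3x.ConjBy (i₁ ≫ u) (i₂ ≫ u) (g ≫ u) := by
  obtain ⟨φ, hφ⟩ := h
  refine ⟨φ, ?_⟩
  rw [← Category.assoc φ.hom, ← hφ, MonObj.mul_comp, MonObj.mul_comp, GrpObj.inv_comp, Category.assoc]

/-- **Borel subgroups are conjugate.** -/
theorem exists_conjBy [Smooth G.hom] {B₁ B₂ : Over (Spec (CommRingCat.of K))} [GrpObj B₁] [GrpObj B₂]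
    (b₁ : B₁ ⟶ G) (b₂ : B₂ ⟶ G) (h₁ : Red.IsBorelOver K b₁) (h₂ : Red.IsBorelOver K b₂) :
    ∃ g : 𝟙_ (Over (Spec (CommRingCat.of K))) ⟶ G, SGA3x.ConjBy b₁ b₂ g := by
  obtain ⟨U, _, u, k1, k2, k3, k4, k5, k6, k7⟩ := exists_neutral_lift (G := G)
  obtain ⟨f₁, hf₁, rfl⟩ := k7 B₁ b₁ h₁
  obtain ⟨f₂, hf₂, rfl⟩ := k7 B₂ b₂ h₂
  obtain ⟨g, hg⟩ := exists_conjBy_conn f₁ f₂ hf₁ hf₂
  exact ⟨g ≫ u, conjBy_comp u hg⟩

end neutral

end Groth.Agent.SGA3x.K5.BorelPt
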