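import Groth.Agent.SGA3x.K5.BorelNA
import Groth.Agent.SGA3x.K5.MTNorm
import Groth.Agent.SGA3x.K18.CommMod
import Groth.Agent.SGA3x.K18.MTDesc
import Groth.Agent.SGA3x.K18.CentQuot
import Groth.Agent.Sga3.H832.NLSolv
import Groth.Agent.Sga3.H784.NAMain
import Groth.Agent.S3036
import Groth.Agent.S8408

/-!
# Normalizers of tori in smooth connected solvable groups (not necessarily affine)
-/

set_option autoImplicit false
universe u
open CategoryTheory MonoidalCategory CartesianMonoidalCategory MonObj GrpObj AlgebraicGeometry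

namespace Groth.Agent.SGA3x.K5.BorelSolv

open Groth.Agent Groth.Agent.Books.AlgPts BorelNA

variable {K : Type u} [Field K] [IsAlgClosed K]

omit [IsAlgClosed K] in
/-- Monomorphic homomorphisms of algebraic groups are closed immersions. -/
theorem isClosedImmersion_of_mono {G H : Over (Spec (CommRingCat.of K))} [GrpObj G] [GrpObj H]
    [LocallyOfFiniteType G.hom] [LocallyOfFiniteType H.hom] [QuasiCompact G.hom]
    (u : G ⟶ H) [IsMonHom u] [Mono u] : IsClosedImmersion u.left := by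
  have h1 : IsSeparated H.hom := Books.AntiAffine.isSeparated_hom H
  have h2 : QuasiCompact (u.left ≫ H.hom) := by rw [Over.w u]; infer_instance
  have h3 : QuasiCompact u.left := QuasiCompact.of_comp u.left H.hom
  exact S3036.result K G H u

/-- In a smooth connected solvable group, a point normalizing a torus centralizes it. -/
theorem cent_of_norm {B T : Over (Spec (CommRingCat.of K))} [GrpObj B] [GrpObj T] [Smooth B.hom]
    [QuasiCompact B.hom] [ConnectedSpace B.left] (hsolv : Red.IsSolvableGrp B) (i : T ⟶ B) [IsMonHom i] [Mono i]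
    (hT : Red.IsTorus T) {N : Over (Spec (CommRingCat.of K))} [GrpObj N] (n : N ⟶ B) (hn : Red.IsNormalizerOf i n) :
    _root_.K18.CentQuot.Cent i n := by
  have hsep := Books.AntiAffine.isSeparated_hom B
  have hTs : Smooth T.hom := Sga3B.TorusAlgClosed.smooth_of_isTorus hT
  have hTa : IsAffineHom T.hom := Sga3B.TorusAlgClosed.isAffineHom_of_isTorus hT
  have hic : IsClosedImmersion i.left := isClosedImmersion_of_mono i
  obtain ⟨N', _, n', hn', hn'c, hN's, -⟩ := MTNorm.exists_normalizer i (_root_.K18.MTDesc.isMultTypeFT_of_isTorus hT)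
  have hn'1 := hn'.1
  have hN'q : QuasiCompact N'.hom := by rw [← Over.w n']; infer_instance
  -- the normalizing points
  have hnor : ∀ (X : Over (Spec (CommRingCat.of K))) (r : X ⟶ N') (t : X ⟶ T), ∃ t' : X ⟶ T,
      (r ≫ n') * (t ≫ i) * (r ≫ n')⁻¹ = t' ≫ i := by
    intro X r t
    obtain ⟨t', ht'⟩ := ((hn'.2.2 X (r ≫ n')).1 ⟨r, rfl⟩ X (𝟙 X) t).1
    exact ⟨t', by rw [← ht', Category.id_comp]⟩
  obtain ⟨Q, _, ρ, hρ, haff, hQs, hQc, hfl, hsurj, hk, hkc, hcent⟩ := exists_hull B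
  have hQsolv : Red.IsSolvableGrp Q := isSolvableGrp_of_surjective ρ hsolv
  obtain ⟨T', _, p, j, hT', hp, hj, hjm, hps, hpf, hpj⟩ := Sga3.H784.NAMain.exists_image_torus (i ≫ ρ) hT
  have hT's : Smooth T'.hom := Sga3B.TorusAlgClosed.smooth_of_isTorus hT'
  have hQsep := Books.AntiAffine.isSeparated_hom Q
  -- the images commute
  have hTN : Smooth (T ⊗ N').hom :=
    inferInstanceAs (Smooth (Limits.pullback.fst T.hom N'.hom ≫ T.hom))
  have hTNr : IsReduced (T ⊗ N').left := Books.AlgPtsSmooth.isReduced_of_smooth _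
  have key : (fst T N' ≫ i ≫ ρ) * (snd T N' ≫ n' ≫ ρ) = (snd T N' ≫ n' ≫ ρ) * (fst T N' ≫ i ≫ ρ) := by
    apply Sga3B.RG.BrPts.hom_ext_of_points
    intro x
    rw [MonObj.comp_mul, MonObj.comp_mul]
    generalize ht0 : x ≫ fst T N' = t₀
    generalize hr0 : x ≫ snd T N' = r₀
    have e1 : x ≫ fst T N' ≫ i ≫ ρ = t₀ ≫ i ≫ ρ := by rw [← ht0, Category.assoc]
    have e2 : x ≫ snd T N' ≫ n' ≫ ρ = r₀ ≫ n' ≫ ρ := by rw [← hr0, Category.assoc]
    rw [e1, e2]
    have h1 := Sga3.H832.NLSolv.conj_eq hQsolv j hT' (r₀ ≫ n' ≫ ρ) (fun t' => by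
      obtain ⟨t, rfl⟩ := exists_point_of_surjective p t'
      obtain ⟨t₂, ht₂⟩ := hnor _ r₀ t
      refine ⟨t₂ ≫ p, ?_⟩
      have h2 := congrArg (· ≫ ρ) ht₂
      simp only [MonObj.mul_comp, GrpObj.inv_comp, Category.assoc] at h2
      rw [Category.assoc, Category.assoc, hpj, ← h2])
    have h2 := congrArg (fun z => (t₀ ≫ p) ≫ z) h1
    simp only [MonObj.comp_mul, GrpObj.comp_inv] at h2
    have h3 : (t₀ ≫ p) ≫ toUnit T' ≫ r₀ ≫ n' ≫ ρ = r₀ ≫ n' ≫ ρ := by
      rw [← Category.assoc (t₀ ≫ p), comp_toUnit, show toUnit (𝟙_ (Over (Spec (CommRingCat.of K)))) = 𝟙 _ from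
        toUnit_unique _ _, Category.id_comp]
    rw [h3, Category.assoc, hpj] at h2
    exact (mul_inv_eq_iff_eq_mul.1 h2).symm
  have hc : ∀ (X : Over (Spec (CommRingCat.of K))) (t : X ⟶ T) (r : X ⟶ N'),
      (t ≫ i ≫ ρ) * (r ≫ n' ≫ ρ) = (r ≫ n' ≫ ρ) * (t ≫ i ≫ ρ) := by
    intro X t r
    have h1 := congrArg (fun z => lift t r ≫ z) key
    simpa only [MonObj.comp_mul, lift_fst_assoc, lift_snd_assoc] using h1
  have hcomm := _root_.K18.CommMod.commute ρ hcent i hT n' hc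
  obtain ⟨a, ha⟩ := (hn'.2.2 N n).2 ((hn.2.2 N n).1 ⟨𝟙 N, Category.id_comp n⟩)
  intro X' x t
  rw [← ha, ← Category.assoc]
  exact (hcomm X' t (x ≫ a)).symm

/-- Points of a smooth connected solvable group normalizing a Cartan subgroup lie in it. -/
theorem exists_factor_of_norm_cartan {B C : Over (Spec (CommRingCat.of K))} [GrpObj B] [GrpObj C] [Smooth B.hom]
    [QuasiCompact B.hom] [ConnectedSpace B.left] (hsolv : Red.IsSolvableGrp B) (c : C ⟶ B)
    (hc : SGA3x.IsCartanOver K c) {X : Over (Spec (CommRingCat.of K))} (y : X ⟶ B)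
    (hy : ∀ (X' : Over (Spec (CommRingCat.of K))) (x : X' ⟶ X) (h : X' ⟶ C),
      (∃ h' : X' ⟶ C, (x ≫ y) * (h ≫ c) * (x ≫ y)⁻¹ = h' ≫ c) ∧
      (∃ h' : X' ⟶ C, (x ≫ y)⁻¹ * (h ≫ c) * (x ≫ y) = h' ≫ c)) :
    ∃ z : X ⟶ C, z ≫ c = y := by
  obtain ⟨h1, h2, T, _, i, hi, hic⟩ := hc
  have hi1 := hi.1
  have hi2 := hi.2.1
  have hsep := Books.AntiAffine.isSeparated_hom B
  have hTs : Smooth T.hom := Sga3B.TorusAlgClosed.smooth_of_isTorus hi.2.2.1
  have hTa : IsAffineHom T.hom := Sga3B.TorusAlgClosed.isAffineHom_of_isTorus hi.2.2.1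
  have hicl : IsClosedImmersion i.left := isClosedImmersion_of_mono i
  obtain ⟨N', _, n', hn', -, -, -⟩ :=
    MTNorm.exists_normalizer i (_root_.K18.MTDesc.isMultTypeFT_of_isTorus hi.2.2.1)
  have h3 := (S8408.result K B T i hi C c hic N' n').2 hn'
  obtain ⟨a, ha⟩ := (h3.2.2 X y).2 hy
  have h4 := cent_of_norm hsolv i hi.2.2.1 n' hn'
  refine (hic.2.2 X y).2 fun X' x h => ?_
  rw [← ha, ← Category.assoc]
  exact h4 X' (x ≫ a) h

end Groth.Agent.SGA3x.K5.BorelSolv
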