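import Groth.Agent.AlgGrp.K399.Hull
import Groth.Agent.AlgGrp.K411.HomKit
import Groth.Agent.S7996
import Groth.Agent.S4107
import Groth.Agent.SGA3x.K16.PreimKer
import Groth.Agent.Sga3B.Parab.SolvPts172
import Groth.Agent.Sga3.H784.Commute
import Groth.Prelude.Def_Red2

/-!
# Borel subgroups and homomorphisms with central kernel

Over an algebraically closed field, the groups are not assumed to be affine.

* `isSolvableGrp_of_centKer`, `isSolvableGrp_of_surjective`: solvable groups;
* `exists_hull`: the affine hull of a smooth connected group, its kernel is smooth, connected and central;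
* `isBorelOver_of_isPullback`: the inverse image of a Borel subgroup under a faithfully flat homomorphism with
  central kernel is a Borel subgroup as soon as it is smooth and connected;
* `exists_borel_image`: a Borel subgroup is the inverse image of a Borel subgroup of the affine hull.
-/

set_option autoImplicit false
universe u
open CategoryTheory MonoidalCategory CartesianMonoidalCategory MonObj GrpObj AlgebraicGeometry

namespace Groth.Agent.SGA3x.K5.BorelNA

open Groth.Agent Groth.Agent.Books.AlgPts Groth.Agent.Sga3.H784.Commute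

/-- The kernel of `q` is central. -/
def CentKer {S : Scheme.{u}} {G Q : Over S} [GrpObj G] [GrpObj Q] (q : G ⟶ Q) : Prop :=
  ∀ (X : Over S) (z g : X ⟶ G), z ≫ q = 1 → z * g = g * z

theorem isSolvableGrp_of_centKer {S : Scheme.{u}} {B B' : Over S} [GrpObj B] [GrpObj B'] (v : B ⟶ B')
    [IsMonHom v] (hv : CentKer v) (h : Red.IsSolvableGrp B') : Red.IsSolvableGrp B := by
  obtain ⟨n, hn⟩ := h
  refine ⟨n + 1, fun X => ?_⟩
  have h1 : ∀ z ∈ derivedSeries (X ⟶ B) n, z ≫ v = 1 := by
    intro z hz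
    have h2 : (ptHom X v) z ∈ derivedSeries (X ⟶ B') n :=
      map_derivedSeries_le_derivedSeries (ptHom X v) n (Subgroup.mem_map_of_mem _ hz)
    rw [hn X, Subgroup.mem_bot] at h2
    exact h2
  rw [derivedSeries_succ, eq_bot_iff, Subgroup.commutator_le]
  intro a ha b hb
  rw [Subgroup.mem_bot, commutatorElement_eq_one_iff_mul_comm]
  exact hv X a b (h1 a ha)

/-- The kernel of the restriction to a subgroup of a homomorphism with central kernel is central. -/
theorem centKer_of_mono {S : Scheme.{u}} {G Q B B' : Over S} [GrpObj G] [GrpObj Q] [GrpObj B] [GrpObj B']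
    (u : G ⟶ Q) (hu : CentKer u) (b : B ⟶ G) [IsMonHom b] [Mono b] (v : B ⟶ B') (b' : B' ⟶ Q) [IsMonHom b']
    (h : b ≫ u = v ≫ b') : CentKer v := by
  intro X z g hz
  rw [← cancel_mono b, MonObj.mul_comp, MonObj.mul_comp]
  refine hu X (z ≫ b) (g ≫ b) ?_
  rw [Category.assoc, h, ← Category.assoc, hz, MonObj.one_comp]

theorem isMonHom_of_comp_mono {S : Scheme.{u}} {B B' Q : Over S} [GrpObj Q] [GrpObj B] [GrpObj B']
    (v : B ⟶ B') (b' : B' ⟶ Q) [IsMonHom b'] [Mono b'] (h : IsMonHom (v ≫ b')) : IsMonHom v :=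
  Sga3C.SubGrp.isMonHom_of_comp_mono v b'

variable {K : Type u} [Field K] [IsAlgClosed K]

theorem exists_point_of_surjective {X Y : Over (Spec (CommRingCat.of K))} [LocallyOfFiniteType X.hom]
    [LocallyOfFiniteType Y.hom] (p : X ⟶ Y) [Surjective p.left]
    (y : 𝟙_ (Over (Spec (CommRingCat.of K))) ⟶ Y) :
    ∃ x : 𝟙_ (Over (Spec (CommRingCat.of K))) ⟶ X, x ≫ p = y :=
  exists_comp_eq_of_pt_mem_range p y (‹Surjective p.left›.surj _)

theorem isSolvableGrp_of_surjective {B I : Over (Spec (CommRingCat.of K))} [GrpObj B] [GrpObj I]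
    [LocallyOfFiniteType B.hom] [Smooth I.hom] (p : B ⟶ I) [IsMonHom p] [Surjective p.left]
    (h : Red.IsSolvableGrp B) : Red.IsSolvableGrp I := by
  have := Books.AntiAffine.isSeparated_hom I
  apply Sga3B.Parab.SolvPts172.isSolvableGrp_of_points
  obtain ⟨n, hn⟩ := h
  have : Group.IsSolvable (𝟙_ (Over (Spec (CommRingCat.of K))) ⟶ B) := ⟨n, hn _⟩
  exact Group.isSolvable_of_surjective (f := ptHom (𝟙_ (Over (Spec (CommRingCat.of K)))) p)
    (fun y => exists_point_of_surjective p y)

/-- The affine hull of a smooth connected group. -/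
theorem exists_hull (G : Over (Spec (CommRingCat.of K))) [GrpObj G] [Smooth G.hom] [QuasiCompact G.hom]
    [ConnectedSpace G.left] :
    ∃ (Q : Over (Spec (CommRingCat.of K))) (_ : GrpObj Q) (ρ : G ⟶ Q), IsMonHom ρ ∧ IsAffine Q.left ∧
      Smooth Q.hom ∧ ConnectedSpace Q.left ∧ Flat ρ.left ∧ Surjective ρ.left ∧
      Smooth (Sga3B.KerGrp.kerObj ρ).hom ∧ ConnectedSpace (Sga3B.KerGrp.kerObj ρ).left ∧ CentKer ρ := by
  obtain ⟨Q, _, ρ, hρ, haff, hlft, hfl, hsurj, ha⟩ := _root_.K399.Hull.exists_affinization G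
  obtain ⟨h1, h2, h3⟩ := S4107.main ρ ha
  have hQ : Smooth Q.hom := AlgGrp.K411.HomKit.smooth_of_flat_surjective ρ
  have hc : ConnectedSpace Q.left := hsurj.surj.connectedSpace ρ.left.continuous
  have h8 : QuasiCompact (ρ.left ≫ Q.hom) := by rw [Over.w]; infer_instance
  have h10 : QuasiCompact ρ.left := QuasiCompact.of_comp ρ.left Q.hom
  have h12 : QuasiCompact (Sga3B.KerGrp.kerObj ρ).hom :=
    inferInstanceAs (QuasiCompact (Limits.pullback.snd ρ.left (η[Q] : 𝟙_ _ ⟶ Q).left))
  obtain ⟨_, _⟩ := Sga3B.KerGrp.exists_grpObj ρ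
  refine ⟨Q, inferInstance, ρ, hρ, haff, hQ, hc, hfl, hsurj, h2, h3, fun X z g hz => ?_⟩
  obtain ⟨z', rfl⟩ := Sga3B.KerGrp.exists_lift ρ z hz
  have h := S7996.result K (Sga3B.KerGrp.kerObj ρ) G (ConcreteCategory.bijective_of_isIso _)
    (Sga3B.KerGrp.kerι ρ) X z' X (𝟙 X) g
  rwa [Category.id_comp] at h

section

variable {G G' B B' : Over (Spec (CommRingCat.of K))} [GrpObj G] [GrpObj G'] [GrpObj B] [GrpObj B']

omit [IsAlgClosed K] in
/-- A factorisation through a subgroup is a homomorphism. -/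
theorem mono_of_isClosedImmersion {X Y : Over (Spec (CommRingCat.of K))} (i : X ⟶ Y) [IsClosedImmersion i.left] :
    Mono i := Books.AlgPtsGrp.mono_of_isClosedImmersion i

/-- Inverse images of Borel subgroups. -/
theorem isBorelOver_of_isPullback [LocallyOfFiniteType G.hom] [QuasiCompact G.hom] [LocallyOfFiniteType G'.hom]
    (u : G ⟶ G') [IsMonHom u] [Surjective u.left] (hu : CentKer u) (b' : B' ⟶ G')
    (hB' : Red.IsBorelOver K b') (b : B ⟶ G) [IsMonHom b] (v : B ⟶ B') (h : IsPullback b v u b')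
    (hsm : Smooth B.hom) (hconn : ConnectedSpace B.left) : Red.IsBorelOver K b := by
  have hb'm : IsMonHom b' := hB'.1
  have hb'c : IsClosedImmersion b'.left := hB'.2.1
  have hb's : Smooth B'.hom := hB'.2.2.1
  have hb'mono : Mono b' := mono_of_isClosedImmersion b'
  have hleft : IsPullback b.left v.left u.left b'.left := h.map (Over.forget _)
  have hbc : IsClosedImmersion b.left :=
    MorphismProperty.of_isPullback (P := @IsClosedImmersion) hleft.flip hb'c
  have hbmono : Mono b := mono_of_isClosedImmersion b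
  have hvs : Surjective v.left := MorphismProperty.of_isPullback (P := @Surjective) hleft inferInstance
  have hvm : IsMonHom v := by
    refine isMonHom_of_comp_mono v b' ?_
    rw [← h.w]
    infer_instance
  refine ⟨inferInstance, hbc, hsm, hconn,
    isSolvableGrp_of_centKer v (centKer_of_mono u hu b v b' h.w) hB'.2.2.2.2.1, ?_⟩
  intro B₂ _ i₂ _ f hi₂ hsm₂ hconn₂ hsolv₂ hf
  have hi₂m : Mono i₂ := mono_of_isClosedImmersion i₂
  have hqc : QuasiCompact (i₂ ≫ u).left := by
    have h1 : QuasiCompact ((i₂ ≫ u).left ≫ G'.hom) := by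
      rw [Over.w, ← Over.w i₂]
      infer_instance
    have := Books.AntiAffine.isSeparated_hom G'
    exact QuasiCompact.of_comp (i₂ ≫ u).left G'.hom
  obtain ⟨C, _, p, i, hp, hi, hpi, hpfl, hps, hplfp, hic, hCs, hCc, -⟩ :=
    AlgGrp.K411.HomKit.exists_image (i₂ ≫ u)
  have hCc := hCc hconn₂
  have him : Mono i := mono_of_isClosedImmersion i
  have hCsolv : Red.IsSolvableGrp C := isSolvableGrp_of_surjective p hsolv₂
  have hB'red : IsReduced B'.left := Books.AlgPtsSmooth.isReduced_of_smooth B'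
  obtain ⟨g, hg⟩ := Books.AlgPtsGrp.exists_lift i b' (by
    rintro _ ⟨y, rfl⟩
    obtain ⟨x, rfl⟩ := hvs.surj y
    refine ⟨p.left (f.left x), ?_⟩
    rw [← Scheme.Hom.comp_apply, ← Scheme.Hom.comp_apply, ← Scheme.Hom.comp_apply, ← Over.comp_left,
      ← Over.comp_left, ← Over.comp_left, hpi, ← Category.assoc, hf, h.w])
  have hgi : IsIso g := hB'.2.2.2.2.2 C i g hic hCs hCc hCsolv hg
  have hw : (p ≫ inv g) ≫ b' = i₂ ≫ u := by
    rw [← hg, Category.assoc, IsIso.inv_hom_id_assoc, hpi]
  let t : B₂ ⟶ B := h.lift i₂ (p ≫ inv g) hw.symm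
  have ht : t ≫ b = i₂ := h.lift_fst _ _ _
  refine ⟨t, ?_, ?_⟩
  · rw [← cancel_mono b, Category.assoc, ht, hf, Category.id_comp]
  · rw [← cancel_mono i₂, Category.assoc, hf, ht, Category.id_comp]

end

section

variable {G Q C P : Over (Spec (CommRingCat.of K))} [GrpObj G] [GrpObj Q] [GrpObj C] [GrpObj P]

/-- Inverse images of smooth connected subgroups when the kernel is smooth and connected. -/
theorem smooth_connected_preimage [LocallyOfFiniteType G.hom] [QuasiCompact G.hom] [LocallyOfFiniteType Q.hom]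
    (u : G ⟶ Q) [IsMonHom u] [Flat u.left] [Surjective u.left] (hk : Smooth (Sga3B.KerGrp.kerObj u).hom)
    (hkc : ConnectedSpace (Sga3B.KerGrp.kerObj u).left) (i : C ⟶ Q) [IsMonHom i] [IsClosedImmersion i.left]
    [Smooth C.hom] [ConnectedSpace C.left] (π : P ⟶ G) [IsMonHom π] (w : P ⟶ C) (h : IsPullback π w u i) :
    IsClosedImmersion π.left ∧ Smooth P.hom ∧ ConnectedSpace P.left := by
  have him : Mono i := mono_of_isClosedImmersion i
  have hleft : IsPullback π.left w.left u.left i.left := h.map (Over.forget _)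
  have hπc : IsClosedImmersion π.left :=
    MorphismProperty.of_isPullback (P := @IsClosedImmersion) hleft.flip inferInstance
  have hws : Surjective w.left := MorphismProperty.of_isPullback (P := @Surjective) hleft inferInstance
  have hwf : Flat w.left := MorphismProperty.of_isPullback (P := @Flat) hleft inferInstance
  have hwm : IsMonHom w := by
    refine isMonHom_of_comp_mono w i ?_
    rw [← h.w]
    infer_instance
  have hP : LocallyOfFiniteType P.hom := by rw [← Over.w π]; infer_instance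
  have hPq : QuasiCompact P.hom := by rw [← Over.w π]; infer_instance
  have hCsep := Books.AntiAffine.isSeparated_hom C
  have hwq : QuasiCompact w.left := by
    have : QuasiCompact (w.left ≫ C.hom) := by rw [Over.w]; infer_instance
    exact QuasiCompact.of_comp w.left C.hom
  have hwft : LocallyOfFiniteType w.left := by
    have : LocallyOfFiniteType (w.left ≫ C.hom) := by rw [Over.w]; infer_instance
    exact locallyOfFiniteType_of_comp w.left C.hom
  have hCn : IsLocallyNoetherian C.left := LocallyOfFiniteType.isLocallyNoetherian C.hom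
  have hwfp : LocallyOfFinitePresentation w.left := inferInstance
  have hkr : IsReduced (Sga3B.KerGrp.kerObj u).left := Books.AlgPtsSmooth.isReduced_of_smooth _
  have hCr : IsReduced C.left := Books.AlgPtsSmooth.isReduced_of_smooth C
  let d : Sga3B.KerGrp.kerObj u ⟶ P := h.lift (Sga3B.KerGrp.kerι u) 1 (by
    rw [Sga3B.KerGrp.kerι_comp, MonObj.one_comp])
  have hd1 : d ≫ π = Sga3B.KerGrp.kerι u := h.lift_fst _ _ _
  have hd2 : d ≫ w = 1 := h.lift_snd _ _ _
  have hd : ∀ (T : Over (Spec (CommRingCat.of K))) (p : T ⟶ P), p ≫ w = 1 →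
      ∃ a : T ⟶ Sga3B.KerGrp.kerObj u, a ≫ d = p := by
    intro T p hp
    obtain ⟨a, ha⟩ := Sga3B.KerGrp.exists_lift u (p ≫ π) (by
      rw [Category.assoc, h.w, ← Category.assoc, hp, MonObj.one_comp])
    refine ⟨a, h.hom_ext ?_ ?_⟩
    · rw [Category.assoc, hd1, ha]
    · rw [Category.assoc, hd2, MonObj.comp_one, hp]
  exact ⟨hπc, _root_.K16.PreimKer.smooth_of_ker w d hd,
    _root_.K16.PreimKer.connectedSpace_of_ker w w.left.isOpenMap d hd⟩

/-- A Borel subgroup is the inverse image of its image when the kernel is smooth, connected and central. -/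
theorem isPullback_of_isBorelOver [Smooth G.hom] [QuasiCompact G.hom] [LocallyOfFiniteType Q.hom]
    (u : G ⟶ Q) [IsMonHom u] [Flat u.left] [Surjective u.left] (hu : CentKer u)
    (hk : Smooth (Sga3B.KerGrp.kerObj u).hom)
    (hkc : ConnectedSpace (Sga3B.KerGrp.kerObj u).left) {B : Over (Spec (CommRingCat.of K))} [GrpObj B]
    (b : B ⟶ G) (hB : Red.IsBorelOver K b) (i : C ⟶ Q) [IsMonHom i] [IsClosedImmersion i.left]
    [Smooth C.hom] [ConnectedSpace C.left] (hC : Red.IsSolvableGrp C) (t : B ⟶ C) (ht : t ≫ i = b ≫ u) :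
    IsPullback b t u i := by
  have hbc : IsClosedImmersion b.left := hB.2.1
  have hbmono : Mono b := mono_of_isClosedImmersion b
  have him : Mono i := mono_of_isClosedImmersion i
  obtain ⟨_, hπ, hw⟩ := AlgGrp.K411.PreimGrp.exists_grpObj u i
  have h := AlgGrp.K411.PreimGrp.isPullback u i
  obtain ⟨h1, h2, h3⟩ := smooth_connected_preimage u hk hkc i (AlgGrp.K411.PreimGrp.preι u i)
    (AlgGrp.K411.PreimGrp.preπ u i) h
  have hsolv : Red.IsSolvableGrp (AlgGrp.K411.PreimGrp.preObj u i) :=
    isSolvableGrp_of_centKer (AlgGrp.K411.PreimGrp.preπ u i)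
      (centKer_of_mono u hu (AlgGrp.K411.PreimGrp.preι u i) _ i h.w) hC
  let f : B ⟶ AlgGrp.K411.PreimGrp.preObj u i := h.lift b t ht.symm
  have hf1 : f ≫ AlgGrp.K411.PreimGrp.preι u i = b := h.lift_fst _ _ _
  have hf2 : f ≫ AlgGrp.K411.PreimGrp.preπ u i = t := h.lift_snd _ _ _
  have hfi : IsIso f := hB.2.2.2.2.2 _ (AlgGrp.K411.PreimGrp.preι u i) f h1 h2 h3 hsolv hf1
  exact h.of_iso (asIso f).symm (Iso.refl _) (Iso.refl _) (Iso.refl _)
    (by rw [← hf1]; simp) (by rw [← hf2]; simp) (by simp) (by simp)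

/-- A Borel subgroup is the inverse image of a Borel subgroup when the kernel is smooth, connected and central. -/
theorem exists_borel_image [Smooth G.hom] [QuasiCompact G.hom] [LocallyOfFiniteType Q.hom]
    (u : G ⟶ Q) [IsMonHom u] [Flat u.left] [Surjective u.left] (hu : CentKer u)
    (hk : Smooth (Sga3B.KerGrp.kerObj u).hom)
    (hkc : ConnectedSpace (Sga3B.KerGrp.kerObj u).left) {B : Over (Spec (CommRingCat.of K))} [GrpObj B]
    (b : B ⟶ G) (hB : Red.IsBorelOver K b) :
    ∃ (B' : Over (Spec (CommRingCat.of K))) (_ : GrpObj B') (b' : B' ⟶ Q) (v : B ⟶ B'),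
      Red.IsBorelOver K b' ∧ IsMonHom v ∧ Flat v.left ∧ Surjective v.left ∧ IsPullback b v u b' := by
  have hbm : IsMonHom b := hB.1
  have hbc : IsClosedImmersion b.left := hB.2.1
  have hbs : Smooth B.hom := hB.2.2.1
  have hqc : QuasiCompact (b ≫ u).left := by
    have h1 : QuasiCompact ((b ≫ u).left ≫ Q.hom) := by
      rw [Over.w, ← Over.w b]
      infer_instance
    have := Books.AntiAffine.isSeparated_hom Q
    exact QuasiCompact.of_comp (b ≫ u).left Q.hom
  obtain ⟨C, _, p, i, hp, hi, hpi, hpfl, hps, hplfp, hic, hCs, hCc, -⟩ :=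
    AlgGrp.K411.HomKit.exists_image (b ≫ u)
  have hCc := hCc hB.2.2.2.1
  have hCsolv : Red.IsSolvableGrp C := isSolvableGrp_of_surjective p hB.2.2.2.2.1
  have him : Mono i := mono_of_isClosedImmersion i
  refine ⟨C, inferInstance, i, p, ⟨hi, hic, hCs, hCc, hCsolv, ?_⟩, hp, hpfl, hps,
    isPullback_of_isBorelOver u hu hk hkc b hB i hCsolv p hpi⟩
  intro C₂ _ i₂ _ f₂ hi₂ hsm₂ hconn₂ hsolv₂ hf₂
  have h2 := isPullback_of_isBorelOver u hu hk hkc b hB i₂ hsolv₂ (p ≫ f₂) (by
    rw [Category.assoc, hf₂, hpi])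
  have h3 : Surjective (p ≫ f₂).left :=
    MorphismProperty.of_isPullback (P := @Surjective) (h2.map (Over.forget _)) (inferInstanceAs (Surjective u.left))
  have h4 : Surjective f₂.left := by
    rw [Over.comp_left] at h3
    exact Surjective.of_comp p.left f₂.left
  have hi₂m : Mono i₂ := mono_of_isClosedImmersion i₂
  have h5 : IsClosedImmersion f₂.left := by
    have : IsClosedImmersion (f₂.left ≫ i₂.left) := by rw [← Over.comp_left, hf₂]; exact hic
    exact IsClosedImmersion.of_comp f₂.left i₂.left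
  have h6 : IsReduced C₂.left := Books.AlgPtsSmooth.isReduced_of_smooth C₂
  have h7 : IsIso f₂.left := isIso_of_isClosedImmersion_of_surjective f₂.left
  have h8 : IsIso ((Over.forget _).map f₂) := h7
  exact isIso_of_reflects_iso f₂ (Over.forget _)

end

end Groth.Agent.SGA3x.K5.BorelNA
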