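import Groth.Agent.Sga3B.AdGrad
import Mathlib.RingTheory.Nakayama
import Mathlib.LinearAlgebra.TensorProduct.Quotient

/-!
# Gradings which are trivial on all fibres are trivial
-/

set_option autoImplicit false
universe u

open TensorProduct

namespace Groth.Agent.SGA3x.K5.GradTriv

open Groth.Agent.Sga3B.AdGrad

variable {R B : Type u} [CommRing R] [CommRing B] [Algebra R B] {N : Type} [AddCommGroup N] (C : Coact R B N)

lemma comp_add (n : N) (a b : B) : C.comp n (a + b) = C.comp n a + C.comp n b := map_add (C.compL n) a b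

lemma comp_smul (n : N) (r : R) (a : B) : C.comp n (r • a) = r • C.comp n a := by
  rw [Algebra.smul_def, C.comp_mul_of_mem_A0 n a (C.isHom_algebraMap r), ← Algebra.smul_def]

lemma comp_algebraMap {n : N} (hn : n ≠ 0) (r : R) : C.comp n (algebraMap R B r) = 0 :=
  C.comp_of_isHom_of_ne (C.isHom_algebraMap r) hn.symm

/-- the ideal generated by the elements of nonzero degree is finitely generated. -/
theorem exists_fg [Algebra.FiniteType R B] :
    ∃ J : Ideal B, J.FG ∧ (∀ (n : N) (a : B), n ≠ 0 → C.comp n a ∈ J) ∧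
      J = Ideal.span {b | ∃ n : N, n ≠ 0 ∧ C.IsHom n b} := by
  classical
  obtain ⟨t, ht⟩ := Algebra.FiniteType.out (R := R) (A := B)
  let F : Finset B := t.biUnion fun x => ((C.degs x).filter fun n => n ≠ 0).image fun n => C.comp n x
  let J : Ideal B := Ideal.span (F : Set B)
  have h1 : ∀ (n : N) (a : B), n ≠ 0 → C.comp n a ∈ J := by
    let Q : Subalgebra R B :=
      { carrier := {a | ∀ n : N, n ≠ 0 → C.comp n a ∈ J}
        add_mem' := fun {a b} ha hb n hn => by
          rw [comp_add]
          exact J.add_mem (ha n hn) (hb n hn)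
        algebraMap_mem' := fun r n hn => by
          rw [comp_algebraMap C hn]
          exact J.zero_mem
        mul_mem' := fun {a b} ha hb n hn => by
          have h2 : C.comp n (a * b) = ∑ i ∈ C.degs b, C.comp n (a * C.comp i b) := by
            conv_lhs => rw [← C.sum_comp b _ subset_rfl, Finset.mul_sum]
            exact map_sum (C.compL n) _ _
          rw [h2]
          refine sum_mem fun i _ => ?_
          rw [C.comp_mul_of_isHom n a (C.isHom_comp i b)]
          by_cases hi : i = 0
          · subst hi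
            rw [sub_zero]
            exact J.mul_mem_right _ (ha n hn)
          · exact J.mul_mem_left _ (hb i hi) }
    have hQ : Q = ⊤ := by
      rw [eq_top_iff, ← ht, Algebra.adjoin_le_iff]
      intro x hx n hn
      by_cases h : n ∈ C.degs x
      · refine Ideal.subset_span ?_
        rw [Finset.mem_coe, Finset.mem_biUnion]
        exact ⟨x, hx, Finset.mem_image.mpr ⟨n, Finset.mem_filter.mpr ⟨h, hn⟩, rfl⟩⟩
      · rw [C.comp_eq_zero_of_notMem h]
        exact J.zero_mem
    intro n a hn
    have : a ∈ Q := hQ ▸ Algebra.mem_top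
    exact this n hn
  refine ⟨J, ⟨F, rfl⟩, h1, le_antisymm (Ideal.span_le.mpr ?_) (Ideal.span_le.mpr ?_)⟩
  · intro b hb
    rw [Finset.mem_coe, Finset.mem_biUnion] at hb
    obtain ⟨x, hx, hb⟩ := hb
    obtain ⟨n, hn, rfl⟩ := Finset.mem_image.mp hb
    exact Ideal.subset_span ⟨n, (Finset.mem_filter.mp hn).2, C.isHom_comp n x⟩
  · rintro a ⟨n, hn, ha⟩
    rw [← C.comp_of_isHom ha]
    exact h1 n a hn

/-- **A grading of an algebra of finite type which is trivial on all fibres is trivial.** -/
theorem isHom_zero_of_fibres [Algebra.FiniteType R B]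
    (h : ∀ (K : Type u) [Field K] [Algebra R K] (n : N) (a : B), n ≠ 0 → C.IsHom n a →
      (1 : K) ⊗ₜ[R] a = 0) (a : B) : C.IsHom 0 a := by
  classical
  obtain ⟨J, hJ, h1, h2⟩ := exists_fg C
  have h3 : J = ⊥ := by
    rw [← Submodule.annihilator_eq_top_iff]
    by_contra hne
    obtain ⟨𝔫, h𝔫, hle⟩ := Ideal.exists_le_maximal _ hne
    have h4 : J ≤ 𝔫 • J := by
      conv_lhs => rw [h2]
      refine Ideal.span_le.mpr ?_
      rintro a ⟨n, hn, ha⟩
      let _ : Field (B ⧸ 𝔫) := Ideal.Quotient.field 𝔫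
      let p : B →ₗ[R] J :=
        { toFun := fun b => ⟨C.comp n b, h1 n b hn⟩
          map_add' := fun x y => Subtype.ext (comp_add C n x y)
          map_smul' := fun r x => Subtype.ext (comp_smul C n r x) }
      have h5 : (1 : B ⧸ 𝔫) ⊗ₜ[R] (p a) = 0 := by
        have h6 := congrArg (p.lTensor (B ⧸ 𝔫)) (h (B ⧸ 𝔫) n a hn ha)
        rwa [LinearMap.lTensor_tmul, map_zero] at h6
      have h6 : (1 : B ⧸ 𝔫) ⊗ₜ[B] (p a) = 0 := by
        have h7 := congrArg (TensorProduct.mapOfCompatibleSMul B R R (B ⧸ 𝔫) J) h5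
        rwa [TensorProduct.mapOfCompatibleSMul_tmul, map_zero] at h7
      have h7 := congrArg (TensorProduct.quotTensorEquivQuotSMul J 𝔫) h6
      rw [map_zero, ← map_one (Ideal.Quotient.mk 𝔫)] at h7
      have h8 : (Submodule.Quotient.mk (p a) : J ⧸ (𝔫 • ⊤ : Submodule B J)) = 0 := by
        rw [← h7]
        simp
      rw [Submodule.Quotient.mk_eq_zero] at h8
      have h9 : (J.subtype (p a)) ∈ (𝔫 • ⊤ : Submodule B J).map J.subtype := ⟨_, h8, rfl⟩
      rw [Submodule.map_smul'', Submodule.map_top, Submodule.range_subtype] at h9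
      have h10 : (J.subtype (p a)) = a := C.comp_of_isHom ha
      rwa [h10] at h9
    obtain ⟨r, hr, hr'⟩ := Submodule.exists_sub_one_mem_and_smul_eq_zero_of_fg_of_le_smul 𝔫 J hJ h4
    have h5 : r ∈ 𝔫 := hle (Submodule.mem_annihilator.mpr hr')
    apply h𝔫.ne_top
    rw [Ideal.eq_top_iff_one]
    have := 𝔫.sub_mem h5 hr
    rwa [sub_sub_cancel] at this
  have h4 : ∀ n ≠ (0 : N), C.comp n a = 0 := fun n hn => by
    have := h1 n a hn
    rwa [h3, Ideal.mem_bot] at this
  have h5 : C.comp 0 a = a := by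
    conv_rhs => rw [← C.sum_comp a (insert 0 (C.degs a)) (Finset.subset_insert _ _)]
    rw [Finset.sum_eq_single_of_mem (0 : N) (Finset.mem_insert_self _ _)]
    intro n _ hn
    exact h4 n hn
  rw [← h5]
  exact C.isHom_comp 0 a

end Groth.Agent.SGA3x.K5.GradTriv
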